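import Groth.Agent.H21Desc.FlatMonoFactor2
import Groth.Agent.H7Lim.DescendUnramified
import Groth.Agent.H19Grp.OrbitSmooth
import Groth.Prelude.Def_RedSub

/-!
# Quotient of a group by a flat stabiliser
-/

set_option autoImplicit false
set_option linter.style.haveILetI false
set_option backward.isDefEq.respectTransparency false

universe u

open CategoryTheory MonoidalCategory CartesianMonoidalCategory MonObj AlgebraicGeometry CategoryTheory.Limits

namespace Groth.Agent.H21Desc

variable {S : Scheme.{u}} {G X H : Over S} [GrpObj G] [GrpObj H]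

/-- a map whose fibres are the cosets of `h` factors as quotient followed by mono -/
theorem exists_quotient_of_cosets [LocallyOfFinitePresentation G.hom] [Flat H.hom] (h : H ⟶ G) (f : G ⟶ X)
    (sq : IsPullback (fst G H) ((G ◁ h) ≫ μ[G]) f f)
    (hfp : LocallyOfFiniteType X.hom ∨ LocallyOfFinitePresentation H.hom) :
    ∃ (Q : Over S) (q : G ⟶ Q), RedSub.IsQuotient h q ∧ LocallyOfFinitePresentation Q.hom ∧
      ∃ m : Q ⟶ X, Mono m ∧ q ≫ m = f := by
  haveI : LocallyOfFiniteType f.left := by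
    haveI : LocallyOfFiniteType (f.left ≫ X.hom) := by rw [Over.w]; infer_instance
    exact locallyOfFiniteType_of_comp f.left X.hom
  have hsq : IsPullback (fst G H).left ((G ◁ h) ≫ μ[G]).left f.left f.left := sq.map (Over.forget S)
  have e : pullback.fst f.left f.left = hsq.isoPullback.inv ≫ (fst G H).left :=
    hsq.isoPullback_inv_fst.symm
  have hflat : Flat (pullback.fst f.left f.left) := by
    haveI : Flat (fst G H).left := MorphismProperty.pullback_fst _ _ ‹Flat H.hom›
    rw [e]; infer_instance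
  have hlfp : LocallyOfFinitePresentation (pullback.fst f.left f.left) := by
    rcases hfp with hX | hH
    · haveI : LocallyOfFinitePresentation (f.left ≫ X.hom) := by rw [Over.w]; infer_instance
      haveI := Groth.Agent.H7Lim.locallyOfFinitePresentation_of_comp f.left X.hom
      infer_instance
    · haveI : LocallyOfFinitePresentation (fst G H).left := MorphismProperty.pullback_fst _ _ hH
      rw [e]; infer_instance
  obtain ⟨Q₀, q₀, m₀, hq1, hq2, hq3, hm, hqm⟩ := exists_factor_lft f.left hflat hlfp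
  let Q : Over S := Over.mk (m₀ ≫ X.hom)
  let q : G ⟶ Q := Over.homMk q₀ (by
    show q₀ ≫ m₀ ≫ X.hom = G.hom
    rw [reassoc_of% hqm, Over.w f])
  let m : Q ⟶ X := Over.homMk m₀ rfl
  haveI : Mono m.left := hm
  haveI : Mono m := (Over.forget S).mono_of_mono_map (inferInstanceAs (Mono m.left))
  have e' : q ≫ m = f := Over.OverMorphism.ext hqm
  haveI : Surjective q.left := hq1
  haveI : Flat q.left := hq2
  haveI : LocallyOfFinitePresentation q.left := hq3
  haveI : LocallyOfFinitePresentation (q.left ≫ Q.hom) := by rw [Over.w]; infer_instance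
  refine ⟨Q, q, ⟨hq1, hq2, hq3, ?_⟩, Groth.Agent.H13Flat.lfp_of_flat_surjective q.left Q.hom, m, ‹_›, e'⟩
  have w : fst G H ≫ q = ((G ◁ h) ≫ μ[G]) ≫ q := by
    rw [← cancel_mono m, Category.assoc, Category.assoc, e']; exact sq.w
  refine ⟨⟨w⟩, ⟨PullbackCone.IsLimit.mk _ (fun z => sq.lift z.fst z.snd ?_) (fun z => sq.lift_fst _ _ _)
    (fun z => sq.lift_snd _ _ _) (fun z k h1 h2 => sq.hom_ext ?_ ?_)⟩⟩
  · rw [← e', ← Category.assoc, z.condition, Category.assoc]
  · rw [h1, sq.lift_fst]
  · rw [h2, sq.lift_snd]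

open Groth.Agent.H19Grp in
/-- the kernel pair of an orbit map is given by the cosets of the stabiliser -/
theorem isPullback_orbitMap (a : AlgGrp.Action G X) (ξ : 𝟙_ (Over S) ⟶ X) (h : H ⟶ G)
    (hH : IsPullback h (toUnit H) (a.orbitMap ξ) ξ) :
    IsPullback (fst G H) ((G ◁ h) ≫ μ[G]) (a.orbitMap ξ) (a.orbitMap ξ) := by
  have orb : ∀ {T : Over S} (g : T ⟶ G), g ≫ a.orbitMap ξ = lift g (toUnit T ≫ ξ) ≫ a.act := fun {T} g => by
    rw [AlgGrp.Action.orbitMap, ← Category.assoc, comp_lift, Category.comp_id, ← Category.assoc,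
      toUnit_unique (g ≫ toUnit G) (toUnit T)]
  have hmu : ∀ {T : Over S} (k : T ⟶ G ⊗ H), k ≫ (G ◁ h) ≫ μ[G] = (k ≫ fst G H) * (k ≫ snd G H ≫ h) :=
    fun {T} k => by
      rw [Hom.mul_def, ← Category.assoc]
      congr 1
      apply CartesianMonoidalCategory.hom_ext <;> simp
  have hst : ∀ {T : Over S} (g : T ⟶ G) (z : T ⟶ H), (g * (z ≫ h)) ≫ a.orbitMap ξ = g ≫ a.orbitMap ξ :=
    fun {T} g z => by
      rw [orb, act_mul, ← orb, orb (T := T) g, Category.assoc, hH.w, ← Category.assoc,
        toUnit_unique (z ≫ toUnit H) (toUnit T)]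
  have w : fst G H ≫ a.orbitMap ξ = ((G ◁ h) ≫ μ[G]) ≫ a.orbitMap ξ := by
    have e := hmu (𝟙 (G ⊗ H))
    simp only [Category.id_comp] at e
    rw [e, hst]
  refine ⟨⟨w⟩, ⟨PullbackCone.IsLimit.mk _ (fun z => lift z.fst (hH.lift (z.fst⁻¹ * z.snd) (toUnit _) ?_))
    (fun z => lift_fst _ _) (fun z => ?_) (fun z k h1 h2 => ?_)⟩⟩
  · have hc : lift z.fst (toUnit _ ≫ ξ) ≫ a.act = lift z.snd (toUnit _ ≫ ξ) ≫ a.act := by
      rw [← orb, ← orb]; exact z.condition
    rw [orb, act_mul, ← hc, ← act_mul, inv_mul_cancel, act_one]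
  · rw [hmu]
    simp only [lift_fst, lift_snd_assoc, IsPullback.lift_fst, mul_inv_cancel_left]
  · apply CartesianMonoidalCategory.hom_ext
    · rw [lift_fst, h1]
    · rw [lift_snd]
      refine hH.hom_ext ?_ (toUnit_unique _ _)
      rw [hH.lift_fst, Category.assoc, ← h1, ← h2, hmu, inv_mul_cancel_left]

end Groth.Agent.H21Desc
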