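import Groth.Agent.H19Grp.FlatMonoFactor
import Groth.Agent.H12AlgSp.FppfQuot
import Groth.Agent.H12AlgSp.LQFScheme2
import Groth.Agent.H13Flat.Scheme
import Groth.Agent.H22Alg.FibreDimBound
import Groth.Agent.H8Props.FieldDimFibre
import Groth.Agent.H8Props.FieldDimSmooth
import Mathlib.AlgebraicGeometry.Sites.Fpqc

/-!
# Factorisation through fppf morphism and mono, for morphisms locally of finite type with flat lfp kernel pair

Adapted from `Groth.Agent.H19Grp.FlatMonoFactor.exists_factor` (helper19).
-/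

set_option autoImplicit false
set_option linter.style.haveILetI false
set_option backward.isDefEq.respectTransparency false

universe u

open CategoryTheory CategoryTheory.Limits AlgebraicGeometry
open AlgSp Groth.Agent.H13AlgSp Groth.Agent.H12AlgSp

namespace Groth.Agent.H21Desc

open Groth.Agent.H19Grp.FlatMonoFactor

variable {X Y : Scheme.{u}}

/-- If the first projection of `X ×_Y X` is flat and locally of finite presentation, then `f` (only locally of finite type) is an fppf morphism followed by a mono. -/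
theorem exists_factor_lft (f : X ⟶ Y) [LocallyOfFiniteType f] (hflat : Flat (pullback.fst f f))
    (hfp : LocallyOfFinitePresentation (pullback.fst f f)) :
    ∃ (X' : Scheme.{u}) (f' : X ⟶ X') (f'' : X' ⟶ Y),
      Surjective f' ∧ Flat f' ∧ LocallyOfFinitePresentation f' ∧ Mono f'' ∧ f' ≫ f'' = f := by
  let U : Over Y := Over.mk f
  let R : Over Y := Over.mk (pullback.fst f f ≫ f)
  let t : R ⟶ U := Over.homMk (pullback.fst f f) rfl
  let s : R ⟶ U := Over.homMk (pullback.snd f f) pullback.condition.symm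
  have hex : ∀ (A : Over Y) (a b : A ⟶ U), ∃ r : A ⟶ R, r ≫ t = a ∧ r ≫ s = b := fun A a b =>
    ⟨Over.homMk (pullback.lift a.left b.left ((Over.w a).trans (Over.w b).symm)) (by
        show pullback.lift _ _ _ ≫ pullback.fst f f ≫ f = A.hom
        rw [pullback.lift_fst_assoc]; exact Over.w a),
      Over.OverMorphism.ext (pullback.lift_fst _ _ _), Over.OverMorphism.ext (pullback.lift_snd _ _ _)⟩
  have h : IsEqvRel s t := by
    refine ⟨fun A r r' h1 h2 => Over.OverMorphism.ext ?_, fun A => ⟨fun a => hex A a a, fun {a b} _ => hex A b a,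
      fun {a b c} _ _ => hex A a c⟩⟩
    exact pullback.hom_ext (congrArg (·.left) h1) (congrArg (·.left) h2)
  haveI : Flat s.left := by
    show Flat (pullback.snd f f)
    rw [← pullbackSymmetry_hom_comp_fst]
    infer_instance
  haveI : LocallyOfFinitePresentation s.left := by
    show LocallyOfFinitePresentation (pullback.snd f f)
    rw [← pullbackSymmetry_hom_comp_fst]
    infer_instance
  obtain ⟨sq, hepi⟩ := isPullback_quotMap h
  let Q := QuotSh.quot Scheme.fppfPrecoverage s t
  let p : (yon Y).obj U ⟶ Q := quotMap s t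
  have hp : RepWith fppfMor p := repWith_fppf_quotMap h
  have hQ : IsAlgSpace Q := isAlgSpace_quot_fppf h
  let T : Over Y := Over.mk (𝟙 Y)
  have hterm : IsTerminal ((yon Y).obj T) := IsTerminal.isTerminalObj (yon Y) _ Over.mkIdTerminal
  let π : Q ⟶ (yon Y).obj T := hterm.from Q
  haveI : Mono π := mono_of_yon fun A y y' _ => by
    haveI : Epi p := hepi
    obtain ⟨κ, C, c, hfl, hfp, hs, hl⟩ := exists_local_lifts' p y
    refine hom_ext_of_cover c (ofArrows_mem_J c hfl hfp hs) fun i => ?_
    obtain ⟨κ', D, d, dfl, dfp, ds, dl⟩ := exists_local_lifts' p ((yon Y).map (c i) ≫ y')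
    refine hom_ext_of_cover d (ofArrows_mem_J d dfl dfp ds) fun k => ?_
    obtain ⟨a, ha⟩ := hl i
    obtain ⟨b, hb⟩ := dl k
    obtain ⟨a', ha'⟩ := (yon Y).map_surjective ((yon Y).map (d k) ≫ a)
    obtain ⟨b', rfl⟩ := (yon Y).map_surjective b
    obtain ⟨r, hr1, hr2⟩ := hex _ a' b'
    rw [← ha, ← hb, ← Category.assoc, ← ha', ← hr1, ← hr2, Functor.map_comp, Functor.map_comp,
      Category.assoc, Category.assoc]
    exact congrArg ((yon Y).map r ≫ ·) sq.w
  have hsep : IsSeparatedMor π := repWith_of_isIso (pullback.diagonal π)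
  have hqf : LocP (@LocallyQuasiFinite ⊓ @LocallyOfFiniteType) π := by
    intro V W a b m ha hb e
    haveI : Etale W.hom := by
      obtain ⟨b', hb'⟩ := (yon Y).map_surjective b
      have h1 : Etale b'.left := (repWith_yon_map_iff _ _).1 (hb' ▸ hb)
      rw [← Over.w b']
      exact MorphismProperty.comp_mem _ _ _ h1 (inferInstanceAs (Etale (𝟙 Y)))
    -- lft
    obtain ⟨V', a₂, a₁, sqV⟩ := hp.rep a
    obtain ⟨⟨hsurj, hfl⟩, hfp⟩ := hp.property a a₁ a₂ sqV
    obtain ⟨a₁, rfl⟩ := (yon Y).map_surjective a₁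
    haveI : Etale a₁.left := ha.property p ((yon Y).map a₂) a₁ sqV.flip
    haveI : Surjective a₂.left := hsurj
    haveI : Flat a₂.left := hfl
    haveI : LocallyOfFinitePresentation a₂.left := hfp
    haveI : LocallyOfFiniteType (a₂.left ≫ V.hom) := by
      rw [Over.w a₂, ← Over.w a₁]
      exact inferInstanceAs (LocallyOfFiniteType (a₁.left ≫ f))
    haveI : LocallyOfFiniteType V.hom := H13Flat.lft_of_flat_surjective a₂.left V.hom
    -- lqf
    let P : Over Y := Over.mk (pullback.fst V.hom V.hom ≫ V.hom)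
    let q₁ : P ⟶ V := Over.homMk (pullback.fst V.hom V.hom) rfl
    let q₂ : P ⟶ V := Over.homMk (pullback.snd V.hom V.hom) pullback.condition.symm
    have sqP : IsPullback ((yon Y).map q₂) ((yon Y).map q₁) a a := by
      have h0 : IsPullback ((yon Y).map q₂) ((yon Y).map q₁) ((yon Y).map (Over.mkIdTerminal.from V))
          ((yon Y).map (Over.mkIdTerminal.from V)) := by
        refine IsPullback.map (yon Y) ?_
        refine ⟨⟨Over.mkIdTerminal.hom_ext _ _⟩, ⟨PullbackCone.IsLimit.mk _
          (fun z => Over.homMk (pullback.lift z.snd.left z.fst.left ((Over.w z.snd).trans (Over.w z.fst).symm)) (by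
            show pullback.lift _ _ _ ≫ pullback.fst V.hom V.hom ≫ V.hom = z.pt.hom
            rw [pullback.lift_fst_assoc]; exact Over.w z.snd))
          (fun z => Over.OverMorphism.ext (pullback.lift_snd _ _ _))
          (fun z => Over.OverMorphism.ext (pullback.lift_fst _ _ _))
          (fun z k h1 h2 => Over.OverMorphism.ext ?_)⟩⟩
        exact pullback.hom_ext ((congrArg (·.left) h2).trans (pullback.lift_fst _ _ _).symm)
          ((congrArg (·.left) h1).trans (pullback.lift_snd _ _ _).symm)
      refine ⟨⟨(cancel_mono π).1 (hterm.hom_ext _ _)⟩, ⟨PullbackCone.IsLimit.mk _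
        (fun z => h0.lift z.fst z.snd (hterm.hom_ext _ _)) (fun z => h0.lift_fst _ _ _)
        (fun z => h0.lift_snd _ _ _) (fun z k h1 h2 => h0.hom_ext ?_ ?_)⟩⟩
      · rw [h1, h0.lift_fst]
      · rw [h2, h0.lift_snd]
    haveI : Etale (pullback.fst V.hom V.hom) := ha.property a ((yon Y).map q₂) q₁ sqP
    haveI : LocallyQuasiFinite (pullback.fst V.hom V.hom) := lqf_of_etale _
    haveI : LocallyQuasiFinite V.hom := lqf_of_lqf_fst V.hom
    haveI : LocallyOfFiniteType (m.left ≫ W.hom) := by rw [Over.w m]; infer_instance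
    haveI : LocallyQuasiFinite (m.left ≫ W.hom) := by rw [Over.w m]; infer_instance
    exact ⟨LocallyQuasiFinite.of_comp m.left W.hom, locallyOfFiniteType_of_comp m.left W.hom⟩
  obtain ⟨W, γ, m, hm, hmπ⟩ := exists_iso_of_lqf_separated hQ hsep hqf
  haveI := hm
  obtain ⟨g, hg⟩ := (yon Y).map_surjective (p ≫ inv m)
  have hg' : fppfMor g.left := (repWith_yon_map_iff _ g).1 (by
    rw [hg]
    exact repWith_comp hp (repWith_of_isIso _))
  refine ⟨W.left, g.left, W.hom, hg'.1.1, hg'.1.2, hg'.2, ⟨fun {Z} z z' e => ?_⟩, Over.w g⟩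
  let A : Over Y := Over.mk (z ≫ W.hom)
  let zO : A ⟶ W := Over.homMk z rfl
  let zO' : A ⟶ W := Over.homMk z' e.symm
  have : zO = zO' := (yon Y).map_injective (by
    rw [← cancel_mono m, ← cancel_mono π]
    exact hterm.hom_ext _ _)
  exact congrArg (·.left) this

end Groth.Agent.H21Desc
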