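import Groth.Agent.H12AlgSp.EtLocalRingProps
import Groth.Agent.H22Alg.FlatSurj

/-!
Geometrically unibranch schemes: etale schemes over them have local rings with a unique minimal prime.
-/

set_option backward.isDefEq.respectTransparency false
set_option linter.style.haveILetI false

universe u

open CategoryTheory CategoryTheory.Limits AlgebraicGeometry Opposite

namespace Groth.Agent.H21Desc

open Groth.Agent.H18Et Groth.Agent.H12AlgSp

variable {X : Scheme.{u}} {Ω : Type u} [Field Ω] [IsSepClosed Ω] (ξ : Spec (CommRingCat.of Ω) ⟶ X)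

theorem isNilpotent_funGerm_iff (U : X.Etale) (z : (Scheme.pointSmallEtale ξ).fiber.obj U) (a : Γ(U.left, ⊤)) :
    IsNilpotent (funGerm ξ U z a) ↔ IsNilpotent (U.left.presheaf.germ ⊤ (ptOf z) trivial a) := by
  constructor
  · rintro ⟨m, hm⟩
    rw [← map_pow] at hm
    obtain ⟨V, g, y, hy, hg⟩ := ((Scheme.pointSmallEtale ξ).toPresheafFiber_eq_iff' (P := EtBase.OO X) U z
      (a ^ m) 0).1 (hm.trans (map_zero (funGerm ξ U z).hom).symm)
    subst hy
    haveI := etale_left g
    refine ⟨m, ?_⟩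
    change (U.left.presheaf.germ ⊤ (g.left.base (ptOf y)) trivial a) ^ m = 0
    apply H22Alg.stalkMap_injective_of_flat g.left (ptOf y)
    rw [← map_pow, map_zero, Scheme.Hom.germ_stalkMap_apply]
    change V.left.presheaf.germ ⊤ (ptOf y) trivial (g.left.appTop (a ^ m)) = 0
    rw [show g.left.appTop (a ^ m) = 0 from hg.trans (map_zero _), map_zero]
  · rintro ⟨m, hm⟩
    rw [← map_pow] at hm
    obtain ⟨O, hvO, i, j, hO⟩ := TopCat.Presheaf.germ_eq U.left.presheaf (U := ⊤) (V := ⊤) (ptOf z) trivial trivial _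
      (0 : Γ(U.left, ⊤)) (hm.trans (map_zero _).symm)
    obtain ⟨V', g', y', hy', e, he⟩ := exists_nbhd_opens ξ U z O hvO
    refine ⟨m, ?_⟩
    rw [← map_pow, ← hy', ← funGerm_map]
    have hres : g'.left.appTop (a ^ m) = 0 := by
      rw [← he, Scheme.Hom.comp_appTop, CommRingCat.comp_apply]
      have h0 : (Scheme.Opens.ι O).appTop (a ^ m) = 0 := by
        apply (ConcreteCategory.bijective_of_isIso (Scheme.Opens.topIso (X := U.left) O).hom).1
        rw [map_zero]
        refine Eq.trans ?_ (hO.trans (map_zero _))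
        rw [← CommRingCat.comp_apply]
        congr 2
        rw [Scheme.Opens.ι_appTop]
        simp only [Scheme.Opens.topIso, Functor.mapIso_hom, ← Functor.map_comp]
        rfl
      rw [h0, map_zero]
    rw [hres, map_zero]

/-- every etale neighbourhood has a unique minimal prime at the point if the etale local ring has -/
theorem uniqueMinimal_nbhd (h : CAlgX.HasUniqueMinimalPrime ↥(EtBase.etaleLocalRing ξ)) (U : X.Etale)
    (z : (Scheme.pointSmallEtale ξ).fiber.obj U) :
    CAlgX.HasUniqueMinimalPrime ↥(U.left.presheaf.stalk (ptOf z)) := by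
  rw [hasUniqueMinimalPrime_iff] at h ⊢
  refine ⟨inferInstance, fun r r' hrr => ?_⟩
  obtain ⟨W₁, hW₁, a₁, rfl⟩ := U.left.presheaf.exists_germ_eq r
  obtain ⟨W₂, hW₂, a₂, rfl⟩ := U.left.presheaf.exists_germ_eq r'
  obtain ⟨V, g, z', hz', e, he⟩ := exists_nbhd_opens ξ U z (W₁ ⊓ W₂) ⟨hW₁, hW₂⟩
  subst hz'
  haveI := etale_left g
  have hle : ∀ W : U.left.Opens, W₁ ⊓ W₂ ≤ W → ⊤ ≤ g.left ⁻¹ᵁ W := fun W hW x _ => hW (by
    have hx : (e.hom ≫ Scheme.Opens.ι (W₁ ⊓ W₂)) x ∈ W₁ ⊓ W₂ := (e.hom x).2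
    rwa [he] at hx)
  have key : ∀ (W : U.left.Opens) (hW : g.left (ptOf z') ∈ W) (hW' : ⊤ ≤ g.left ⁻¹ᵁ W) (a : Γ(U.left, W)),
      g.left.stalkMap (ptOf z') (U.left.presheaf.germ W _ hW a) =
        V.left.presheaf.germ ⊤ (ptOf z') trivial (g.left.appLE W ⊤ hW' a) := fun W hW hW' a => by
    rw [Scheme.Hom.germ_stalkMap_apply, Scheme.Hom.appLE, CommRingCat.comp_apply,
      TopCat.Presheaf.germ_res_apply]
  have hinj : Function.Injective (g.left.stalkMap (ptOf z')).hom :=
    H22Alg.stalkMap_injective_of_flat g.left (ptOf z')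
  have h0 : ∀ (W : U.left.Opens) (hW : g.left (ptOf z') ∈ W) (hW' : ⊤ ≤ g.left ⁻¹ᵁ W) (a : Γ(U.left, W)),
      IsNilpotent (funGerm ξ V z' (g.left.appLE W ⊤ hW' a)) → IsNilpotent (U.left.presheaf.germ W _ hW a) :=
    fun W hW hW' a ha => by
    refine (IsNilpotent.map_iff hinj).mp ?_
    rw [key W hW hW', ← isNilpotent_funGerm_iff]
    exact ha
  refine (h.2 (funGerm ξ V z' (g.left.appLE W₁ ⊤ (hle _ inf_le_left) a₁))
    (funGerm ξ V z' (g.left.appLE W₂ ⊤ (hle _ inf_le_right) a₂)) ?_).imp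
      (h0 W₁ hW₁ _ a₁) (h0 W₂ hW₂ _ a₂)
  rw [← map_mul, isNilpotent_funGerm_iff, map_mul, ← key W₁ hW₁, ← key W₂ hW₂, ← map_mul]
  exact hrr.map _

/-- local rings of schemes etale over a geometrically unibranch scheme have prime nilradical -/
theorem isPrime_nilradical_stalk {P S : Scheme.{u}} (f : P ⟶ S) [Etale f] (x : P)
    (hS : CAlg2.IsGeomUnibranch (S.presheaf.stalk (f x))) : (nilradical (P.presheaf.stalk x)).IsPrime := by
  let K := AlgebraicClosure (P.residueField x)
  let ξ' : Spec (CommRingCat.of K) ⟶ P :=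
    Spec.map (CommRingCat.ofHom (algebraMap (P.residueField x) K)) ≫ P.fromSpecResidueField x
  let ξ₀ := ξ' ≫ f
  let U : S.Etale := MorphismProperty.Over.mk ⊤ f inferInstance
  let z : (Scheme.pointSmallEtale ξ₀).fiber.obj U := Over.homMk ξ' rfl
  have hu : Subsingleton ↥(Spec (CommRingCat.of K)) := inferInstanceAs (Subsingleton (PrimeSpectrum K))
  have hz : ptOf z = x := by
    have : ptOf z = ξ' default := congrArg ξ' (Subsingleton.elim _ _)
    rw [this]
    exact Scheme.fromSpecResidueField_apply x _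
  have hi : Groth.Agent.H12AlgSp.EtStrictHens.imagePt ξ₀ = f x :=
    (congrArg ξ₀ (Subsingleton.elim _ (default : PrimeSpectrum K))).trans
      (congrArg f (Scheme.fromSpecResidueField_apply x _))
  have hall : ∀ y : S, y = f x → CAlg2.IsGeomUnibranch (S.presheaf.stalk y) := by rintro _ rfl; exact hS
  have h1 : CAlgX.HasUniqueMinimalPrime ↥(EtBase.etaleLocalRing ξ₀) :=
    (etaleLocalRing_uniqueMinimal_iff ξ₀).2 (hall _ hi)
  have h2 := uniqueMinimal_nbhd ξ₀ h1 U z
  rw [hz] at h2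
  obtain ⟨-, h⟩ := (hasUniqueMinimalPrime_iff _).1 h2
  exact ⟨fun ht => one_ne_zero (α := P.presheaf.stalk x) (by
    obtain ⟨n, hn⟩ := mem_nilradical.1 ((Ideal.eq_top_iff_one _).1 ht)
    rwa [one_pow] at hn), fun {a b} hab => h a b hab⟩

end Groth.Agent.H21Desc
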