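import Groth.Prelude.Def_AutFam
import Mathlib.CategoryTheory.Sites.SubcanonicalOver
import Mathlib.AlgebraicGeometry.Sites.Fpqc

/-!
The functor of families of homomorphisms between two groups over `S` is an fpqc sheaf.
-/

open CategoryTheory MonoidalCategory CartesianMonoidalCategory MonObj GrpObj AlgebraicGeometry
open Opposite

universe u

set_option backward.isDefEq.respectTransparency false

namespace Groth.Agent.H21Desc

variable {S : Scheme.{u}} (H G : Over S) [GrpObj H] [GrpObj G]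

theorem isHomFamily_whisker {T T' : Over S} (a : T' ⟶ T) {φ : H ⊗ T ⟶ G} (h : AutFam.IsHomFamily H G φ) :
    AutFam.IsHomFamily H G ((H ◁ a) ≫ φ) := fun X g₁ g₂ t => by
  rw [lift_whiskerLeft_assoc, lift_whiskerLeft_assoc, lift_whiskerLeft_assoc]
  exact h X g₁ g₂ _

/-- families of homomorphisms `H ⟶ G` -/
noncomputable def homFam : (Over S)ᵒᵖ ⥤ Type u where
  obj T := {φ : H ⊗ T.unop ⟶ G // AutFam.IsHomFamily H G φ}
  map a := ↾fun φ => ⟨(H ◁ a.unop) ≫ φ.1, isHomFamily_whisker H G a.unop φ.2⟩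
  map_id T := by ext φ; simp
  map_comp a b := by ext φ; simp

theorem homFam_map_val {T T' : Over S} (a : T' ⟶ T) (φ : (homFam H G).obj (op T)) :
    ((homFam H G).map a.op φ).1 = (H ◁ a) ≫ φ.1 := rfl

theorem homFam_isSheaf_fpqc : Presheaf.IsSheaf (Scheme.fpqcTopology.over S) (homFam H G) := by
  rw [isSheaf_iff_isSheaf_of_type]
  intro T R hR x hx
  let J := Scheme.fpqcTopology.over S
  have hy := GrothendieckTopology.Subcanonical.isSheaf_of_isRepresentable (J := J) (yoneda.obj G)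
  let R' := R.pullback (snd H T)
  have hR' : R' ∈ J (H ⊗ T) := J.pullback_stable _ hR
  let y : Presieve.FamilyOfElements (yoneda.obj G) R'.arrows := fun Z g hg =>
    lift (g ≫ fst H T) (𝟙 Z) ≫ (x (g ≫ snd H T) hg).1
  have hxc : ∀ ⦃Y Z : Over S⦄ (k : Z ⟶ Y) {f : Y ⟶ T} (hf : R f) (hk : R (k ≫ f)),
      (x (k ≫ f) hk).1 = (H ◁ k) ≫ (x f hf).1 := fun Y Z k f hf hk =>
    congrArg Subtype.val ((Presieve.compatible_iff_sieveCompatible x).mp hx f k hf)
  have hxe : ∀ ⦃Y : Over S⦄ {f f' : Y ⟶ T} (_ : f = f') (hf : R f) (hf' : R f'), (x f hf).1 = (x f' hf').1 := by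
    intro Y f f' h hf hf'
    subst h
    rfl
  have hyc : y.Compatible := by
    rw [Presieve.compatible_iff_sieveCompatible]
    intro Z W g k hg
    change lift ((k ≫ g) ≫ fst H T) (𝟙 W) ≫ (x ((k ≫ g) ≫ snd H T) _).1 =
      k ≫ lift (g ≫ fst H T) (𝟙 Z) ≫ (x (g ≫ snd H T) hg).1
    have h2 : R (k ≫ g ≫ snd H T) := R.downward_closed hg k
    have e : (x ((k ≫ g) ≫ snd H T) (R'.downward_closed hg k)).1 = (x (k ≫ g ≫ snd H T) h2).1 :=
      hxe (Category.assoc _ _ _) _ _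
    rw [e, hxc k hg h2, lift_whiskerLeft_assoc, comp_lift_assoc, Category.id_comp, Category.comp_id,
      Category.assoc]
  obtain ⟨φ, hφ, hφu⟩ := hy R' hR' y hyc
  have hval : ∀ ⦃Y : Over S⦄ (f : Y ⟶ T) (hf : R f), (H ◁ f) ≫ φ = (x f hf).1 := fun Y f hf => by
    have hm : R' (H ◁ f) := by
      change R ((H ◁ f) ≫ snd H T)
      rw [whiskerLeft_snd]
      exact R.downward_closed hf _
    refine (hφ (H ◁ f) hm).trans ?_
    change lift ((H ◁ f) ≫ fst H T) (𝟙 _) ≫ (x ((H ◁ f) ≫ snd H T) hm).1 = _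
    have h2 : R (snd H Y ≫ f) := R.downward_closed hf _
    have e : (x ((H ◁ f) ≫ snd H T) hm).1 = (x (snd H Y ≫ f) h2).1 := hxe (whiskerLeft_snd _ _) _ _
    rw [e, hxc _ hf h2, lift_whiskerLeft_assoc, Category.id_comp, whiskerLeft_fst, lift_fst_snd, Category.id_comp]
  have hfam : AutFam.IsHomFamily H G φ := fun X g₁ g₂ t => by
    refine (hy (R.pullback t) (J.pullback_stable t hR)).isSeparatedFor.ext fun Z k hk => ?_
    change k ≫ _ = k ≫ _
    have e : ∀ g : X ⟶ H, k ≫ lift g t ≫ φ = lift (k ≫ g) (𝟙 Z) ≫ (x (k ≫ t) hk).1 := fun g => by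
      rw [← hval (k ≫ t) hk, lift_whiskerLeft_assoc, comp_lift_assoc, Category.id_comp]
    rw [MonObj.comp_mul, e, e, e, MonObj.comp_mul]
    exact (x (k ≫ t) hk).2 Z _ _ _
  refine ⟨⟨φ, hfam⟩, fun Y f hf => Subtype.ext (hval f hf), fun ψ hψ => Subtype.ext (hφu _ fun Z g hg => ?_)⟩
  change g ≫ ψ.1 = lift (g ≫ fst H T) (𝟙 Z) ≫ (x (g ≫ snd H T) hg).1
  rw [← show (H ◁ (g ≫ snd H T)) ≫ ψ.1 = _ from congrArg Subtype.val (hψ (g ≫ snd H T) hg),
    lift_whiskerLeft_assoc, Category.id_comp]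
  congr 1
  ext <;> simp

theorem homFam_isSheaf : Presheaf.IsSheaf (Scheme.fppfTopology.over S) (homFam H G) := by
  rw [isSheaf_iff_isSheaf_of_type]
  refine Presieve.isSheaf_of_le _ (fun T R hR => ?_) ((isSheaf_iff_isSheaf_of_type _ _).mp (homFam_isSheaf_fpqc H G))
  exact Scheme.fppfTopology_le_fpqcTopology _ hR

end Groth.Agent.H21Desc
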