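import Groth.Agent.H21Diag.HomFamily
import Groth.Agent.H21Diag.HomEtale
import Groth.Agent.H21Diag.DSMap
import Groth.Agent.H21Diag.SubgroupSplit
import Groth.Agent.H21Desc.HomSheaf
import Groth.Agent.H8Props.WeilRes.Glue
import Groth.Prelude.Def_TwC

/-!
The scheme of homomorphisms between diagonalisable groups is a constant scheme.
-/

open CategoryTheory MonoidalCategory CartesianMonoidalCategory MonObj GrpObj AlgebraicGeometry
open CategoryTheory.Limits Opposite Groth.Agent.H8Props.WeilRes

universe u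

set_option backward.isDefEq.respectTransparency false
set_option maxHeartbeats 1000000

namespace Groth.Agent.H21Desc

open Groth.Agent.H21Diag

variable {S : Scheme.{u}}

theorem isZariskiGluing_homFam (H G : Over S) [GrpObj H] [GrpObj G] : IsZariskiGluing (homFam H G) := by
  intro T κ C π ho hc s hs
  have hsh : (Presieve.ofArrows C π).IsSheafFor (homFam H G) := by
    have hG := homFam_isSheaf H G
    rw [isSheaf_iff_isSheaf_of_type] at hG
    rw [Presieve.isSheafFor_iff_generate]
    refine hG _ ?_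
    rw [GrothendieckTopology.mem_over_iff]
    refine GrothendieckTopology.superset_covering _ ?_
      (Precoverage.toGrothendieck_mono Scheme.zariskiPrecoverage_le_fppfPrecoverage _
        ((coverOfFamily T C π ho hc).mem_grothendieckTopology))
    rintro Z₁ g ⟨W₁, h, _, hi, rfl⟩
    obtain ⟨i⟩ := hi
    rw [Sieve.overEquiv_iff]
    refine ⟨C i, Over.homMk h ?_, π i, ⟨i⟩, Over.OverMorphism.ext rfl⟩
    change h ≫ (C i).hom = (h ≫ (π i).left) ≫ T.hom
    rw [Category.assoc, Over.w (π i)]
  rw [Presieve.isSheafFor_arrows_iff] at hsh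
  exact hsh s fun i j Z gi gj e => hs i j Z gi gj e

theorem isHomFamily_fst_comp {H G : Over S} [GrpObj H] [GrpObj G] (f : H ⟶ G) [IsMonHom f] (T : Over S) :
    AutFam.IsHomFamily H G (fst H T ≫ f) := fun X g₁ g₂ t => by
  simp only [lift_fst_assoc]
  exact MonObj.mul_comp g₁ g₂ f

variable (S) (M M' : Type) [AddCommGroup M] [AddCommGroup M']

/-- the family of the homomorphism of a map of character groups -/
noncomputable def dsConst (φ : M' →+ M) (T : Over S) : (homFam (Red.DS S M) (Red.DS S M')).obj (op T) :=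
  ⟨fst _ T ≫ Red.DSmap S φ, isHomFamily_fst_comp (Red.DSmap S φ) T⟩

variable {S M M'}

theorem map_dsConst (φ : M' →+ M) {T T' : Over S} (a : T' ⟶ T) :
    (homFam (Red.DS S M) (Red.DS S M')).map a.op (dsConst S M M' φ T) = dsConst S M M' φ T' :=
  Subtype.ext ((Category.assoc _ _ _).symm.trans (congrArg (· ≫ Red.DSmap S φ) (whiskerLeft_fst _ a)))

theorem gpt_comp_DSmap (φ : M' →+ M) {D : Type u} [CommRing D] (y : Spec (CommRingCat.of D) ⟶ S)
    (χ : Multiplicative M →* D) :
    gpt (idChart S M) y χ ≫ Red.DSmap S φ = gpt (idChart S M') y (χ.comp (AddMonoidHom.toMultiplicative φ)) := by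
  let t' : (Over.mk (y ≫ 𝟙 S) : Over S) ⟶ Over.mk y := Over.homMk (𝟙 _) (by
    change 𝟙 _ ≫ y = y ≫ 𝟙 S
    simp)
  have h1 : ∀ {N : Type} [AddCommGroup N] (θ : Multiplicative N →* D), gpt (idChart S N) y θ = t' ≫ dpt y θ :=
    fun θ => Over.OverMorphism.ext ((gpt_idChart y θ).trans (Category.id_comp _).symm)
  rw [h1, h1, Category.assoc, dpt_comp_DSmap]

theorem famChar_dsConst (φ : M' →+ M) {T : Over S} {B : Type u} [CommRing B] (y : Spec (CommRingCat.of B) ⟶ S)
    (t : Over.mk (y ≫ 𝟙 S) ⟶ T) :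
    FamChar (idChart S M) (idChart S M') (dsConst S M M' φ T).1 y t (AddMonoidHom.toMultiplicative φ) := by
  intro D _ g χ
  simp only [dsConst, lift_fst_assoc]
  exact gpt_comp_DSmap φ _ χ

/-- an affine neighbourhood as a scheme over the base -/
theorem exists_affine_point (T : Over S) (x : T.left) :
    ∃ (B : CommRingCat.{u}) (y : Spec (CommRingCat.of B) ⟶ S) (t : Over.mk (y ≫ 𝟙 S) ⟶ T),
      IsOpenImmersion t.left ∧ x ∈ Set.range t.left := by
  obtain ⟨_, ⟨O : T.left.Opens, hO, rfl⟩, hx, -⟩ :=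
    T.left.isBasis_affineOpens.exists_subset_of_mem_open (Set.mem_univ x) isOpen_univ
  refine ⟨Γ(T.left, O), hO.fromSpec ≫ T.hom, Over.homMk hO.fromSpec (Category.comp_id _).symm,
    inferInstanceAs (IsOpenImmersion hO.fromSpec), ?_⟩
  change x ∈ Set.range hO.fromSpec
  rw [hO.range_fromSpec]
  exact hx

/-- the maps of character groups of a family are unique over a nonempty base -/
theorem eq_of_dsConst_eq {φ φ' : M' →+ M} {T : Over S} (x : T.left)
    (h : dsConst S M M' φ T = dsConst S M M' φ' T) : φ = φ' := by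
  obtain ⟨B, y, t, _, hx⟩ := exists_affine_point T x
  obtain ⟨z, -⟩ := hx
  have : Nontrivial B := (Ideal.Quotient.mk (z : PrimeSpectrum B).asIdeal).domain_nontrivial
  have h1 := famChar_dsConst φ y t
  rw [h] at h1
  exact AddMonoidHom.toMultiplicative.injective (h1.unique (famChar_dsConst φ' y t))

/-- a family is locally the family of a map of character groups -/
theorem exists_local_dsConst [AddGroup.FG M'] (T : Over S) (s : (homFam (Red.DS S M) (Red.DS S M')).obj (op T))
    (x : T.left) : ∃ (C : Over S) (a : C ⟶ T) (φ : M' →+ M), IsOpenImmersion a.left ∧ x ∈ Set.range a.left ∧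
      (homFam (Red.DS S M) (Red.DS S M')).map a.op s = dsConst S M M' φ C := by
  obtain ⟨B, y, t, _, hx⟩ := exists_affine_point T x
  obtain ⟨z, rfl⟩ := hx
  obtain ⟨r, hr, ψ, hψ⟩ := exists_famChar (idChart S M) (idChart S M') s.1 s.2 y t
    (z : PrimeSpectrum B).asIdeal (z : PrimeSpectrum B).isPrime
  let k : B →+* Localization.Away r := algebraMap B _
  let c : Over.mk ((Spec.map (CommRingCat.ofHom k) ≫ y) ≫ 𝟙 S) ⟶ Over.mk (y ≫ 𝟙 S) :=
    Over.homMk (Spec.map (CommRingCat.ofHom k)) (Category.assoc _ _ _).symm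
  have : IsOpenImmersion (Spec.map (CommRingCat.ofHom k)) := IsOpenImmersion.of_isLocalization r
  have hk : FamChar (idChart S M) (idChart S M') s.1 (Spec.map (CommRingCat.ofHom k) ≫ y) (c ≫ t) ψ := by
    intro D _ g χ
    have hu : IsUnit ((g.comp k) r) :=
      IsUnit.map g (IsLocalization.Away.algebraMap_isUnit (S := Localization.Away r) r)
    have key : ∀ (w : Spec (CommRingCat.of D) ⟶ S) (_ : w = Spec.map (CommRingCat.ofHom (g.comp k)) ≫ y)
        (a : Over.mk (w ≫ 𝟙 S) ⟶ T), a.left = Spec.map (CommRingCat.ofHom (g.comp k)) ≫ t.left →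
        lift (gpt (idChart S M) w χ) a ≫ s.1 = gpt (idChart S M') w (χ.comp ψ) := by
      rintro w rfl a ha
      refine Eq.trans ?_ (hψ D (g.comp k) hu χ)
      congr 2
      exact Over.OverMorphism.ext ha
    refine key _ (specMap_comp_assoc k g y) _ ?_
    simp only [c, Over.comp_left, Over.homMk_left, specMap_comp, Category.assoc]
  refine ⟨_, c ≫ t, MonoidHom.toAdditive ψ, inferInstanceAs (IsOpenImmersion (Spec.map (CommRingCat.ofHom k) ≫ t.left)), ?_, Subtype.ext ?_⟩
  · obtain ⟨z', hz'⟩ : z ∈ Set.range (Spec.map (CommRingCat.ofHom k)) := by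
      have e := PrimeSpectrum.localization_away_comap_range (Localization.Away r) r
      exact e.symm ▸ hr
    exact ⟨z', (Scheme.Hom.comp_apply _ _ _).trans (congrArg t.left hz')⟩
  · have : IsAffineHom (Red.DS S M).hom := by
      have h0 : IsAffineHom (Red.diag (ULift.{u} ℤ) M).hom := by
        change IsAffineHom (Spec.map _)
        infer_instance
      exact MorphismProperty.pullback_snd (P := @IsAffineHom) _ _ h0
    exact FamChar.ext ((famChar_whisker s.1 (c ≫ t) ψ).mpr hk) (famChar_dsConst _ _ _)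

variable (S M M') in
/-- the index set -/
abbrev HomIdx : Type u := ULift.{u} (M' →+ M)

variable (S) in
/-- a copy of the base -/
noncomputable def copy (I : Type u) (i : I) (T : Over S) : T ⟶ TwC.const S I :=
  Over.homMk (T.hom ≫ Sigma.ι (fun _ : I => S) i) (by simp)

theorem comp_copy (I : Type u) (i : I) {T T' : Over S} (a : T' ⟶ T) : a ≫ copy S I i T = copy S I i T' :=
  Over.OverMorphism.ext (by
    change a.left ≫ T.hom ≫ _ = T'.hom ≫ _
    rw [← Category.assoc, Over.w a])

/-- a map to a constant scheme is locally constant -/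
theorem exists_local_copy (I : Type u) {T : Over S} (a : T ⟶ TwC.const S I) (x : T.left) :
    ∃ (O : T.left.Opens) (i : I), x ∈ O ∧ partIncl T O ≫ a = copy S I i (openPart T O) := by
  obtain ⟨i, z, hz⟩ := (sigmaOpenCover fun _ : I => S).exists_eq (a.left x)
  refine ⟨a.left ⁻¹ᵁ (Sigma.ι (fun _ : I => S) i).opensRange, i, ⟨z, hz⟩, Over.OverMorphism.ext ?_⟩
  let O := a.left ⁻¹ᵁ (Sigma.ι (fun _ : I => S) i).opensRange
  let l : O.toScheme ⟶ S := IsOpenImmersion.lift (Sigma.ι (fun _ : I => S) i) (O.ι ≫ a.left) (by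
    rintro _ ⟨w, rfl⟩
    exact w.2)
  have hl : l ≫ Sigma.ι (fun _ : I => S) i = O.ι ≫ a.left := IsOpenImmersion.lift_fac _ _ _
  have hlS : l = O.ι ≫ T.hom := by
    rw [← Over.w a, ← Category.assoc, ← hl, Category.assoc]
    simp
  change O.ι ≫ a.left = (O.ι ≫ T.hom) ≫ Sigma.ι (fun _ : I => S) i
  rw [← hlS, hl]

variable (S M M')

/-- the scheme of homomorphisms `D(M) ⟶ D(M')` is the constant scheme of maps `M' ⟶ M` -/
theorem exists_representsHom_DS [AddGroup.FG M'] :
    ∃ υ : Red.DS S M ⊗ TwC.const S (HomIdx.{u} M M') ⟶ Red.DS S M',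
      AutFam.RepresentsHom (Red.DS S M) (Red.DS S M') (TwC.const S (HomIdx.{u} M M')) υ ∧
      ∀ (i : HomIdx.{u} M M') (T : Over S),
        ((Red.DS S M) ◁ copy S (HomIdx.{u} M M') i T) ≫ υ = (dsConst S M M' i.down T).1 := by
  let F := homFam (Red.DS S M) (Red.DS S M')
  let I := HomIdx M M'
  let A := TwC.const S I
  let π : ∀ i : I, Over.mk (𝟙 S) ⟶ A := fun i => copy S I i _
  obtain ⟨u, hu, -⟩ := isZariskiGluing_homFam (Red.DS S M) (Red.DS S M') A I (fun _ => Over.mk (𝟙 S)) π
    (fun i => by
      change IsOpenImmersion (𝟙 S ≫ Sigma.ι (fun _ : I => S) i)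
      infer_instance)
    (fun x => by
      obtain ⟨i, z, hz⟩ := (sigmaOpenCover fun _ : I => S).exists_eq x
      exact ⟨i, z, by
        change (𝟙 S ≫ Sigma.ι (fun _ : I => S) i) z = x
        rw [Category.id_comp]; exact hz⟩)
    (fun i => dsConst S M M' i.down _) (fun i j Z a b e => by
      rw [map_dsConst, map_dsConst]
      by_cases hZ : Nonempty Z.left
      · obtain ⟨z⟩ := hZ
        by_contra hne
        have hij : i ≠ j := fun h => hne (by rw [h])
        have e1 := congrArg (fun m : Z ⟶ A => m.left z) e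
        simp only [π, copy, Over.comp_left, Over.homMk_left, Over.mk_hom, Category.id_comp, Scheme.Hom.comp_apply] at e1
        exact hij (congrArg Sigma.fst ((sigmaMk fun _ : I => S).injective (a₁ := ⟨i, a.left z⟩) (a₂ := ⟨j, b.left z⟩)
          (by rw [sigmaMk_mk, sigmaMk_mk]; exact e1)))
      · have : IsEmpty Z.left := not_nonempty_iff.mp hZ
        have : IsEmpty (Red.DS S M ⊗ Z).left :=
          Function.isEmpty (snd (Red.DS S M) Z).left
        exact Subtype.ext (Over.OverMorphism.ext ((isInitialOfIsEmpty).hom_ext _ _)))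
  have hcopy : ∀ (i : I) (T : Over S), F.map (copy S I i T).op u = dsConst S M M' i.down T := by
    intro i T
    let a : T ⟶ Over.mk (𝟙 S) := Over.homMk T.hom (Category.comp_id _)
    rw [show copy S I i T = a ≫ π i from (comp_copy I i a).symm, op_comp, FunctorToTypes.map_comp_apply, hu,
      map_dsConst]
  have inj : ∀ {T : Over S} (a a' : T ⟶ A), F.map a.op u = F.map a'.op u → a = a' := by
    intro T a a' e
    refine Over.OverMorphism.ext ?_
    choose O i hO ha using exists_local_copy I a
    choose O' i' hO' ha' using exists_local_copy I a'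
    let W : T.left → T.left.Opens := fun x => O x ⊓ O' x
    refine Scheme.Cover.hom_ext (T.left.openCoverOfIsOpenCover W
      (eq_top_iff.mpr fun x _ => TopologicalSpace.Opens.mem_iSup.mpr ⟨x, hO x, hO' x⟩)) _ _ fun x => ?_
    let j : openPart T (W x) ⟶ openPart T (O x) :=
      Over.homMk (T.left.homOfLE inf_le_left) (Scheme.homOfLE_ι_assoc _ _ _)
    let j' : openPart T (W x) ⟶ openPart T (O' x) :=
      Over.homMk (T.left.homOfLE inf_le_right) (Scheme.homOfLE_ι_assoc _ _ _)
    have hj : j ≫ partIncl T (O x) = partIncl T (W x) := Over.OverMorphism.ext (T.left.homOfLE_ι inf_le_left)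
    have hj' : j' ≫ partIncl T (O' x) = partIncl T (W x) := Over.OverMorphism.ext (T.left.homOfLE_ι inf_le_right)
    have e1 : partIncl T (W x) ≫ a = copy S I (i x) _ := by rw [← hj, Category.assoc, ha, comp_copy]
    have e2 : partIncl T (W x) ≫ a' = copy S I (i' x) _ := by rw [← hj', Category.assoc, ha', comp_copy]
    have hi : i x = i' x := by
      refine ULift.down_injective (eq_of_dsConst_eq (T := openPart T (W x)) (⟨x, hO x, hO' x⟩ : W x) ?_)
      rw [← hcopy, ← hcopy, ← e1, ← e2, op_comp, op_comp, FunctorToTypes.map_comp_apply,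
        FunctorToTypes.map_comp_apply, e]
    exact congrArg CommaMorphism.left (e1.trans ((congrArg (copy S I · _) hi).trans e2.symm))
  have surj : ∀ {T : Over S} (s : F.obj (op T)), ∃ a : T ⟶ A, F.map a.op u = s := by
    intro T s
    choose C c φ hc hx hφ using exists_local_dsConst T s
    let b : ∀ x, C x ⟶ A := fun x => copy S I ⟨φ x⟩ (C x)
    have hb : ∀ x, F.map (b x).op u = F.map (c x).op s := fun x => (hcopy _ _).trans (hφ x).symm
    obtain ⟨a, ha, -⟩ := isZariskiGluing_yoneda A T T.left C c hc (fun x => ⟨x, hx x⟩) b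
      (fun x x' Z p q e => inj _ _ (by
        change F.map (p ≫ b x).op u = F.map (q ≫ b x').op u
        rw [op_comp, op_comp, FunctorToTypes.map_comp_apply, FunctorToTypes.map_comp_apply, hb, hb,
          ← FunctorToTypes.map_comp_apply, ← FunctorToTypes.map_comp_apply, ← op_comp, ← op_comp, e]))
    refine ⟨a, (isZariskiGluing_homFam (Red.DS S M) (Red.DS S M') T T.left C c hc (fun x => ⟨x, hx x⟩)
      (fun x => F.map (c x).op s) (fun x x' Z p q e => by
        rw [← FunctorToTypes.map_comp_apply, ← FunctorToTypes.map_comp_apply, ← op_comp, ← op_comp, e])).unique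
      (fun x => ?_) (fun x => rfl)⟩
    rw [← hb, ← show c x ≫ a = b x from ha x, op_comp, FunctorToTypes.map_comp_apply]
  obtain ⟨u₁, u₂⟩ := u
  refine ⟨(show Red.DS S M ⊗ A ⟶ Red.DS S M' from u₁), ⟨u₂, fun T ψ hψ => ?_⟩,
    fun i T => congrArg Subtype.val (hcopy i T)⟩
  obtain ⟨a, ha⟩ := surj (⟨ψ, hψ⟩ : F.obj (op T))
  exact ⟨a, congrArg Subtype.val ha, fun a' ha' => inj _ _ ((Subtype.ext ha').trans ha.symm)⟩

end Groth.Agent.H21Desc
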