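import Groth.Agent.H21Desc.HomRep
import Groth.Agent.H8Props.WeilRes.Glue
import Mathlib.AlgebraicGeometry.Morphisms.Etale
import Mathlib.AlgebraicGeometry.Limits

/-!
Schemes of homomorphisms given on the members of a covering glue.
-/

open CategoryTheory MonoidalCategory CartesianMonoidalCategory MonObj GrpObj AlgebraicGeometry
open CategoryTheory.Limits Opposite Desc Groth.Agent.H15Magnet.AffineRep Groth.Agent.H8Props.WeilRes
open TopologicalSpace

universe u

set_option backward.isDefEq.respectTransparency false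
set_option backward.isDefEq.respectTransparency.types false
set_option maxHeartbeats 1000000

namespace Groth.Agent.H21Desc

variable {S U : Scheme.{u}} {f : U ⟶ S} {H G : Over S} [GrpObj H] [GrpObj G]

/-- the families over `U`-schemes -/
noncomputable abbrev homFamOver (f : U ⟶ S) (H G : Over S) [GrpObj H] [GrpObj G] : (Over U)ᵒᵖ ⥤ Type u :=
  (Over.map f).op ⋙ homFam H G

theorem isZariskiGluing_homFamOver : IsZariskiGluing (homFamOver f H G) := by
  intro T κ C π ho hc s hs
  let C' : κ → Over S := fun i => (Over.map f).obj (C i)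
  let π' : ∀ i, C' i ⟶ (Over.map f).obj T := fun i => (Over.map f).map (π i)
  have hsh : (Presieve.ofArrows C' π').IsSheafFor (homFam H G) := by
    have hG := homFam_isSheaf H G
    rw [isSheaf_iff_isSheaf_of_type] at hG
    rw [Presieve.isSheafFor_iff_generate]
    refine hG _ ?_
    rw [GrothendieckTopology.mem_over_iff]
    refine GrothendieckTopology.superset_covering _ ?_ (Precoverage.toGrothendieck_mono Scheme.zariskiPrecoverage_le_fppfPrecoverage _
      ((coverOfFamily T C π ho hc).mem_grothendieckTopology))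
    rintro Z₁ g ⟨W₁, h, _, hi, rfl⟩
    obtain ⟨i⟩ := hi
    rw [Sieve.overEquiv_iff]
    refine ⟨C' i, Over.homMk h ?_, π' i, ⟨i⟩, Over.OverMorphism.ext rfl⟩
    change h ≫ (C i).hom ≫ f = (h ≫ (π i).left) ≫ T.hom ≫ f
    rw [Category.assoc, ← Over.w (π i)]
    simp only [Category.assoc]
  rw [Presieve.isSheafFor_arrows_iff] at hsh
  refine hsh s fun i j Z gi gj e => ?_
  let Z₀ : Over U := Over.mk (gi.left ≫ (C i).hom)
  let a : Z₀ ⟶ C i := Over.homMk gi.left
  let b : Z₀ ⟶ C j := Over.homMk gj.left (by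
    change gj.left ≫ (C j).hom = gi.left ≫ (C i).hom
    rw [← Over.w (π j), ← Over.w (π i), ← Category.assoc, ← Category.assoc]
    exact congrArg (fun m => m ≫ T.hom) (congrArg CommaMorphism.left e).symm)
  have hab : a ≫ π i = b ≫ π j := Over.OverMorphism.ext (congrArg CommaMorphism.left e :)
  let c : Z ⟶ (Over.map f).obj Z₀ := Over.homMk (𝟙 _) (by
    change 𝟙 _ ≫ (gi.left ≫ (C i).hom) ≫ f = Z.hom
    rw [Category.id_comp, Category.assoc]
    exact Over.w gi)
  have e1 := congrArg ((homFam H G).map c.op) (hs i j Z₀ a b hab)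
  simp only [homFamOver, Functor.comp_map, Functor.op_map, Quiver.Hom.unop_op, ← FunctorToTypes.map_comp_apply,
    ← op_comp] at e1
  have ei : c ≫ (Over.map f).map a = gi := Over.OverMorphism.ext (Category.id_comp _)
  have ej : c ≫ (Over.map f).map b = gj := Over.OverMorphism.ext (Category.id_comp _)
  rw [ei, ej] at e1
  exact e1

variable {I : Type u} {V : I → Scheme.{u}} (g : ∀ i, V i ⟶ S) {A : ∀ i, Over (V i)}
  {υ : ∀ i, Red.bc (g i) H ⊗ A i ⟶ Red.bc (g i) G}

theorem map_map_homFam {X Y Z : Over S} (a : X ⟶ Y) (b : Y ⟶ Z) (x : (homFam H G).obj (op Z)) :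
    (homFam H G).map a.op ((homFam H G).map b.op x) = (homFam H G).map (a ≫ b).op x := by
  rw [← FunctorToTypes.map_comp_apply, ← op_comp]

/-- a scheme over a piece, over the coproduct -/
noncomputable abbrev piece (A : ∀ i, Over (V i)) (i : I) : Over (∐ V) := (Over.map (Sigma.ι V i)).obj (A i)

/-- from the coproduct to the base, on a piece -/
noncomputable def toPiece (A : ∀ i, Over (V i)) (i : I) {T : Over (∐ V)} (z : T ⟶ piece A i) :
    (Over.map (Sigma.desc g)).obj T ⟶ (Over.map (g i)).obj (A i) :=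
  Over.homMk z.left (by
    change z.left ≫ (A i).hom ≫ g i = T.hom ≫ Sigma.desc g
    rw [← Over.w z, Category.assoc]
    simp)

theorem toPiece_comp (A : ∀ i, Over (V i)) (i : I) {T T' : Over (∐ V)} (h : T' ⟶ T) (z : T ⟶ piece A i) :
    (Over.map (Sigma.desc g)).map h ≫ toPiece g A i z = toPiece g A i (h ≫ z) :=
  Over.OverMorphism.ext rfl

variable {g}

/-- the universal family on a piece -/
noncomputable def pieceFam (hA : ∀ i, AutFam.RepresentsHom (Red.bc (g i) H) (Red.bc (g i) G) (A i) (υ i)) (i : I) :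
    (homFam H G).obj (op ((Over.map (g i)).obj (A i))) :=
  ⟨famDown (υ i), isHomFamily_famDown (hA i).1⟩

theorem existsUnique_toPiece (hA : ∀ i, AutFam.RepresentsHom (Red.bc (g i) H) (Red.bc (g i) G) (A i) (υ i))
    (i : I) (T : Over (∐ V)) (s : (homFamOver (Sigma.desc g) H G).obj (op T))
    (hT : Set.range T.hom ⊆ Set.range (Sigma.ι V i)) :
    ∃! z : T ⟶ piece A i, (homFam H G).map (toPiece g A i z).op (pieceFam hA i) = s := by
  let t := IsOpenImmersion.lift (Sigma.ι V i) T.hom hT
  have ht : t ≫ Sigma.ι V i = T.hom := IsOpenImmersion.lift_fac _ _ _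
  let x : (Over.map (Sigma.desc g)).obj T ⟶ Over.mk (g i) := Over.homMk t (by
    change t ≫ g i = T.hom ≫ Sigma.desc g
    rw [← ht, Category.assoc]
    simp)
  obtain ⟨z, ⟨hz1, hz2⟩, hu⟩ :=
    (isRep_of_representsHom (hA i)).2 _ s x (Over.OverMorphism.ext (Over.w x).symm)
  refine ⟨Over.homMk z.left ?_, ?_, fun z' hz' => ?_⟩
  · change z.left ≫ (A i).hom ≫ Sigma.ι V i = T.hom
    rw [← Category.assoc, show z.left ≫ (A i).hom = t from congrArg CommaMorphism.left hz1, ht]
  · exact hz2
  · refine Over.OverMorphism.ext (congrArg CommaMorphism.left (hu (toPiece g A i z') ⟨Over.OverMorphism.ext ?_, hz'⟩) :)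
    rw [← cancel_mono (Sigma.ι V i)]
    exact (Category.assoc _ _ _).trans ((Over.w z').trans ht.symm)

theorem map_pieceFam (hA : ∀ i, AutFam.RepresentsHom (Red.bc (g i) H) (Red.bc (g i) G) (A i) (υ i))
    (i : I) {T T' : Over (∐ V)} (h : T' ⟶ T) (z : T ⟶ piece A i) :
    (homFamOver (Sigma.desc g) H G).map h.op ((homFam H G).map (toPiece g A i z).op (pieceFam hA i)) =
      (homFam H G).map (toPiece g A i (h ≫ z)).op (pieceFam hA i) := by
  rw [← toPiece_comp g A i h z]
  exact map_map_homFam ((Over.map (Sigma.desc g)).map h) (toPiece g A i z) (pieceFam hA i)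

/-- the functor over the coproduct is representable -/
theorem exists_representableBy_sigma (hA : ∀ i, AutFam.RepresentsHom (Red.bc (g i) H) (Red.bc (g i) G) (A i) (υ i)) :
    ∃ B : Over (∐ V), Nonempty ((homFamOver (Sigma.desc g) H G).RepresentableBy B) := by
  let ℬ : Set (∐ V).Opens := {O | ∃ i, (O : Set (∐ V).carrier) ⊆ Set.range (Sigma.ι V i)}
  have hB : Opens.IsBasis ℬ := by
    rw [Opens.isBasis_iff_nbhd]
    intro O x hx
    obtain ⟨i, y, hy⟩ := (sigmaOpenCover V).exists_eq x
    exact ⟨O ⊓ (Sigma.ι V i).opensRange, ⟨i, fun z hz => hz.2⟩, ⟨hx, y, hy⟩, inf_le_left⟩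
  choose idx hidx using fun O : ℬ => O.2
  let O := fun v : ℬ => (piece A (idx v)).hom ⁻¹ᵁ v.1
  let W : ℬ → Over (∐ V) := fun v => openPart (piece A (idx v)) (O v)
  let u₀ : ∀ v : ℬ, (homFamOver (Sigma.desc g) H G).obj (op (W v)) := fun v =>
    (homFam H G).map (toPiece g A (idx v) (partIncl _ (O v))).op (pieceFam hA (idx v))
  have hW : ∀ v : ℬ, Set.range (W v).hom ⊆ (v.1 : Set (∐ V).carrier) := by
    rintro v _ ⟨⟨x, hx⟩, rfl⟩
    exact hx
  have hbij : ∀ (v : ℬ) (T : Over (∐ V)), Set.range T.hom ⊆ (v.1 : Set (∐ V).carrier) →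
      Function.Bijective fun h : T ⟶ W v => (homFamOver (Sigma.desc g) H G).map h.op (u₀ v) := by
    intro v T hT
    refine ⟨fun h h' e => ?_, fun s => ?_⟩
    · have e' := (map_pieceFam hA (idx v) h (partIncl _ (O v))).symm.trans
        (e.trans (map_pieceFam hA (idx v) h' (partIncl _ (O v))))
      have e1 := ((existsUnique_toPiece hA _ T _ (hT.trans (hidx v))).unique e' rfl :)
      apply Over.OverMorphism.ext
      rw [← cancel_mono (O v).ι]
      exact congrArg CommaMorphism.left e1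
    · obtain ⟨z, hz, -⟩ := existsUnique_toPiece hA (idx v) T s (hT.trans (hidx v))
      have hr : Set.range z.left ⊆ Set.range (O v).ι := by
        rintro _ ⟨x, rfl⟩
        rw [Scheme.Opens.range_ι]
        change (piece A (idx v)).hom (z.left x) ∈ v.1
        rw [← Scheme.Hom.comp_apply, Over.w]
        exact hT ⟨x, rfl⟩
      let h : T ⟶ W v := Over.homMk (IsOpenImmersion.lift (O v).ι z.left hr) (by
        change _ ≫ (O v).ι ≫ (piece A (idx v)).hom = T.hom
        rw [IsOpenImmersion.lift_fac_assoc, Over.w])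
      refine ⟨h, ?_⟩
      refine ((map_pieceFam hA (idx v) h (partIncl _ (O v))).trans ?_).trans hz
      exact congrArg (fun m => (homFam H G).map (toPiece g A (idx v) m).op (pieceFam hA (idx v)))
        (Over.OverMorphism.ext (IsOpenImmersion.lift_fac _ _ _) : h ≫ partIncl _ (O v) = z)
  obtain ⟨B, -, e⟩ := exists_representableBy_of_basis (homFamOver (Sigma.desc g) H G) isZariskiGluing_homFamOver
    ℬ hB W hW u₀ hbij
  exact ⟨B, e⟩

theorem isPullback_piece (hA : ∀ i, AutFam.RepresentsHom (Red.bc (g i) H) (Red.bc (g i) G) (A i) (υ i))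
    {B : Over (∐ V)} (e : (homFamOver (Sigma.desc g) H G).RepresentableBy B) (i : I) :
    ∃ b : (A i).left ⟶ B.left, IsPullback b (A i).hom B.hom (Sigma.ι V i) := by
  obtain ⟨b, hb⟩ := e.homEquiv.surjective
    ((homFam H G).map (toPiece g A i (𝟙 (piece A i))).op (pieceFam hA i) :
      (homFamOver (Sigma.desc g) H G).obj (op (piece A i)))
  have hb' : ∀ {T : Over (∐ V)} (z : T ⟶ piece A i),
      e.homEquiv (z ≫ b) = (homFam H G).map (toPiece g A i z).op (pieceFam hA i) := fun z => by
    rw [e.homEquiv_comp, hb, map_pieceFam, Category.comp_id]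
  refine ⟨b.left, ⟨⟨Over.w b⟩, ⟨PullbackCone.IsLimit.mk _ ?_ ?_ ?_ ?_⟩⟩⟩
  · intro c
    refine ((existsUnique_toPiece hA i (Over.mk (c.snd ≫ Sigma.ι V i))
      (e.homEquiv (Over.homMk c.fst c.condition : Over.mk (c.snd ≫ Sigma.ι V i) ⟶ B)) ?_).choose).left
    rintro _ ⟨x, rfl⟩
    exact ⟨c.snd x, rfl⟩
  · intro c
    have h := Exists.choose_spec (existsUnique_toPiece hA i (Over.mk (c.snd ≫ Sigma.ι V i))
      (e.homEquiv (Over.homMk c.fst c.condition : Over.mk (c.snd ≫ Sigma.ι V i) ⟶ B))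
      (by rintro _ ⟨x, rfl⟩; exact ⟨c.snd x, rfl⟩))
    exact congrArg CommaMorphism.left (e.homEquiv.injective ((hb' _).trans h.1))
  · intro c
    have h := Exists.choose_spec (existsUnique_toPiece hA i (Over.mk (c.snd ≫ Sigma.ι V i))
      (e.homEquiv (Over.homMk c.fst c.condition : Over.mk (c.snd ≫ Sigma.ι V i) ⟶ B))
      (by rintro _ ⟨x, rfl⟩; exact ⟨c.snd x, rfl⟩))
    rw [← cancel_mono (Sigma.ι V i), Category.assoc]
    exact Over.w (Exists.choose (existsUnique_toPiece hA i (Over.mk (c.snd ≫ Sigma.ι V i))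
      (e.homEquiv (Over.homMk c.fst c.condition : Over.mk (c.snd ≫ Sigma.ι V i) ⟶ B))
      (by rintro _ ⟨x, rfl⟩; exact ⟨c.snd x, rfl⟩)))
  · intro c m h1 h2
    let m' : Over.mk (c.snd ≫ Sigma.ι V i) ⟶ piece A i := Over.homMk m (by
      change m ≫ (A i).hom ≫ Sigma.ι V i = c.snd ≫ Sigma.ι V i
      rw [← Category.assoc, h2])
    have h := Exists.choose_spec (existsUnique_toPiece hA i (Over.mk (c.snd ≫ Sigma.ι V i))
      (e.homEquiv (Over.homMk c.fst c.condition : Over.mk (c.snd ≫ Sigma.ι V i) ⟶ B))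
      (by rintro _ ⟨x, rfl⟩; exact ⟨c.snd x, rfl⟩))
    refine congrArg CommaMorphism.left (h.2 m' ((hb' m').symm.trans ?_))
    exact congrArg e.homEquiv (Over.OverMorphism.ext h1)

theorem isRep_of_representableBy (f : U ⟶ S) {B : Over U} (e : (homFamOver f H G).RepresentableBy B) :
    IsRep (toBase H G) (pMap f) (strMap f B) (e.homEquiv (𝟙 B) : (homFam H G).obj (op ((Over.map f).obj B))) := by
  let ξ : (homFam H G).obj (op ((Over.map f).obj B)) := e.homEquiv (𝟙 B)
  have heq : ∀ (T : Over U) (z : T ⟶ B), e.homEquiv z = (homFam H G).map ((Over.map f).map z).op ξ :=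
    fun T z => by
      have h1 := e.homEquiv_comp z (𝟙 B)
      rw [Category.comp_id] at h1
      exact h1
  refine ⟨Over.OverMorphism.ext rfl, fun T φ x _ => ?_⟩
  let z₀ := e.homEquiv.symm ((homFam H G).map (back x).op φ : (homFamOver f H G).obj (op (up x)))
  have hz₀ : (homFam H G).map ((Over.map f).map z₀).op ξ = (homFam H G).map (back x).op φ := by
    rw [← heq]; exact e.homEquiv.apply_symm_apply _
  refine ⟨jmap x ≫ (Over.map f).map z₀, ⟨Over.OverMorphism.ext ?_, ?_⟩, fun z ⟨hz1, hz2⟩ => ?_⟩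
  · exact (congrArg (· ≫ B.hom) (Category.id_comp z₀.left)).trans (Over.w z₀)
  · refine (map_map_homFam _ _ _).symm.trans ((congrArg _ hz₀).trans ((map_map_homFam _ _ _).trans ?_))
    rw [jmap_back, op_id, FunctorToTypes.map_id_apply]
  · let z₁ : up x ⟶ B := Over.homMk z.left (congrArg CommaMorphism.left hz1)
    have e2 : (Over.map f).map z₁ = back x ≫ z := Over.OverMorphism.ext (Category.id_comp _).symm
    have : z₁ = z₀ := by
      apply e.homEquiv.injective
      refine ((heq _ _).trans ?_).trans (hz₀.symm.trans (heq _ _).symm)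
      rw [e2]
      exact (map_map_homFam _ _ _).symm.trans (congrArg _ hz2)
    rw [← this]
    exact Over.OverMorphism.ext (Category.id_comp _).symm

/-- Schemes of homomorphisms given on an fpqc covering descend, when the descent data are effective. -/
theorem exists_representsHom_of_fpqc_cover [H13Desc.Eff.IsCover (Sigma.desc g)]
    (hA : ∀ i, AutFam.RepresentsHom (Red.bc (g i) H) (Red.bc (g i) G) (A i) (υ i))
    (hD : ∀ D : SchDD (Sigma.desc g), (∀ (P : MorphismProperty Scheme.{u}) [IsZariskiLocalAtTarget P],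
      (∀ i, P (A i).hom) → P D.obj.hom) → ∃ Z : Over S, Nonempty ((toDD (Sigma.desc g)).obj Z ≅ D)) :
    ∃ (A₀ : Over S) (υ₀ : H ⊗ A₀ ⟶ G), AutFam.RepresentsHom H G A₀ υ₀ ∧
      (∀ i, Nonempty (Red.bc (g i) A₀ ≅ A i)) ∧
      ∀ (P : MorphismProperty Scheme.{u}) [P.IsStableUnderBaseChange] [IsZariskiLocalAtTarget P]
        [P.DescendsAlong (@Surjective ⊓ @Flat ⊓ @QuasiCompact)], (∀ i, P (A i).hom) → P A₀.hom := by
  obtain ⟨B, ⟨e⟩⟩ := exists_representableBy_sigma hA
  have hpb := fun i => isPullback_piece hA e i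
  choose b hb using hpb
  have hP : ∀ (P : MorphismProperty Scheme.{u}) [IsZariskiLocalAtTarget P], (∀ i, P (A i).hom) → P B.hom := by
    intro P _ h
    refine IsZariskiLocalAtTarget.of_openCover (sigmaOpenCover V) fun i => ?_
    have hi := h i
    rw [← (hb i).isoPullback_hom_snd, MorphismProperty.cancel_left_of_respectsIso P] at hi
    exact hi
  obtain ⟨A₀, υ₀, h1, ⟨i₀⟩, h3⟩ := exists_representsHom_of_isRep (Sigma.desc g)
    (isRep_of_representableBy _ e) (fun D hD' => hD D fun P _ h => by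
      rw [hD']; exact hP P h)
  refine ⟨A₀, υ₀, h1, fun i => ?_, fun P _ _ _ h => h3 P (hP P h)⟩
  have hbig : IsPullback ((b i) ≫ i₀.inv.left ≫ pullback.fst A₀.hom (Sigma.desc g)) (A i).hom A₀.hom
      (Sigma.ι V i ≫ Sigma.desc g) := by
    refine (hb i).paste_horiz ?_
    refine (IsPullback.of_hasPullback A₀.hom (Sigma.desc g)).of_iso
      ⟨i₀.hom.left, i₀.inv.left, by rw [← Over.comp_left, i₀.hom_inv_id]; rfl,
        by rw [← Over.comp_left, i₀.inv_hom_id]; rfl⟩
      (Iso.refl _) (Iso.refl _) (Iso.refl _) ?_ ?_ (by simp) (by simp)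
    · simp [← Over.comp_left_assoc]
    · simp
  rw [Sigma.ι_desc] at hbig
  exact ⟨(Over.isoMk hbig.isoPullback hbig.isoPullback_hom_snd).symm⟩


/-- Schemes of homomorphisms given on an fppf covering descend, when the descent data are effective. -/
theorem exists_representsHom_of_cover [∀ i, Flat (g i)] [∀ i, LocallyOfFinitePresentation (g i)]
    (hg : ∀ s : S, ∃ i, s ∈ Set.range (g i))
    (hA : ∀ i, AutFam.RepresentsHom (Red.bc (g i) H) (Red.bc (g i) G) (A i) (υ i))
    (hD : ∀ D : SchDD (Sigma.desc g), (∀ (P : MorphismProperty Scheme.{u}) [IsZariskiLocalAtTarget P],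
      (∀ i, P (A i).hom) → P D.obj.hom) → ∃ Z : Over S, Nonempty ((toDD (Sigma.desc g)).obj Z ≅ D)) :
    ∃ (A₀ : Over S) (υ₀ : H ⊗ A₀ ⟶ G), AutFam.RepresentsHom H G A₀ υ₀ ∧
      (∀ i, Nonempty (Red.bc (g i) A₀ ≅ A i)) ∧
      ∀ (P : MorphismProperty Scheme.{u}) [P.IsStableUnderBaseChange] [IsZariskiLocalAtTarget P]
        [P.DescendsAlong (@Surjective ⊓ @Flat ⊓ @QuasiCompact)], (∀ i, P (A i).hom) → P A₀.hom := by
  have : Flat (Sigma.desc g) := IsZariskiLocalAtSource.sigmaDesc (P := @Flat) inferInstance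
  have : LocallyOfFinitePresentation (Sigma.desc g) :=
    IsZariskiLocalAtSource.sigmaDesc (P := @LocallyOfFinitePresentation) inferInstance
  have : Surjective (Sigma.desc g) := ⟨fun s => by
    obtain ⟨i, y, rfl⟩ := hg s
    exact ⟨Sigma.ι V i y, by rw [← Scheme.Hom.comp_apply, Sigma.ι_desc]⟩⟩
  exact exists_representsHom_of_fpqc_cover hA hD

end Groth.Agent.H21Desc
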