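import Groth.Agent.H21Desc.Family

/-!
Families of homomorphisms between base changes and families of homomorphisms between the groups.
-/

open CategoryTheory MonoidalCategory CartesianMonoidalCategory MonObj GrpObj AlgebraicGeometry
open CategoryTheory.Limits

universe u

set_option backward.isDefEq.respectTransparency false

namespace Groth.Agent.H21Desc

variable {S S' : Scheme.{u}} {p : S' ⟶ S}

/-- from points of a base change to points -/
noncomputable def tr {V : Over S'} {X : Over S} (g : V ⟶ Red.bc p X) : (Over.map p).obj V ⟶ X :=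
  ((Over.mapPullbackAdj p).homEquiv V X).symm g

theorem tr_injective {V : Over S'} {X : Over S} : Function.Injective (tr : (V ⟶ Red.bc p X) → _) :=
  fun _ _ h => ((Over.mapPullbackAdj p).homEquiv V X).symm.injective h

theorem tr_comp {V V' : Over S'} {X : Over S} (k : V' ⟶ V) (g : V ⟶ Red.bc p X) :
    tr (k ≫ g) = (Over.map p).map k ≫ tr g :=
  (Over.mapPullbackAdj p).homEquiv_naturality_left_symm k g

theorem tr_homEquiv {V : Over S'} {X : Over S} (g : (Over.map p).obj V ⟶ X) :
    tr ((Over.mapPullbackAdj p).homEquiv V X g) = g :=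
  Equiv.symm_apply_apply _ g

theorem tr_mul {V : Over S'} {X : Over S} [GrpObj X] (g h : V ⟶ Red.bc p X) : tr (g * h) = tr g * tr h := by
  apply ((Over.mapPullbackAdj p).homEquiv V X).injective
  rw [tr, Equiv.apply_symm_apply]
  simp only [tr, Adjunction.homEquiv_unit, Functor.map_mul, MonObj.comp_mul]
  simp only [← Adjunction.homEquiv_unit, Equiv.apply_symm_apply]

theorem fwd_eq {W : Over S} (w : W ⟶ Over.mk p) {Y : Over S} (g : up w ⟶ Red.bc p Y) :
    fwd w g = jmap w ≫ tr g := rfl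

/-- the identity of `T`, from `S'` back to `S` -/
noncomputable def back {T : Over S} (t : T ⟶ Over.mk p) : (Over.map p).obj (up t) ⟶ T :=
  Over.homMk (𝟙 T.left) (by simpa using (Over.w t).symm)

theorem jmap_back {T : Over S} (t : T ⟶ Over.mk p) : jmap t ≫ back t = 𝟙 T :=
  Over.OverMorphism.ext (Category.id_comp _)

variable {H G : Over S} [GrpObj H] [GrpObj G]

theorem whiskerLeft_eq_lift {C : Type*} [Category C] [CartesianMonoidalCategory C] {X Y Y' : C} (f : Y ⟶ Y') :
    (X ◁ f) = lift (fst X Y) (snd X Y ≫ f) := by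
  ext <;> simp

/-- a family over `T`, base changed along `T ⟶ S'` -/
noncomputable def trFam {T : Over S} (t : T ⟶ Over.mk p) (φ : H ⊗ T ⟶ G) : Red.bc p H ⊗ up t ⟶ Red.bc p G :=
  (Over.mapPullbackAdj p).homEquiv _ _
    (lift (tr (fst (Red.bc p H) (up t))) ((Over.map p).map (snd (Red.bc p H) (up t)) ≫ back t) ≫ φ)

omit [GrpObj H] [GrpObj G] in
theorem tr_lift_trFam {T : Over S} (t : T ⟶ Over.mk p) (φ : H ⊗ T ⟶ G) {V : Over S'} (h : V ⟶ Red.bc p H)
    (s : V ⟶ up t) : tr (lift h s ≫ trFam t φ) = lift (tr h) ((Over.map p).map s ≫ back t) ≫ φ := by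
  rw [tr_comp, trFam, tr_homEquiv, comp_lift_assoc, ← tr_comp, ← Functor.map_comp_assoc, lift_fst, lift_snd]

theorem isHomFamily_trFam {T : Over S} (t : T ⟶ Over.mk p) {φ : H ⊗ T ⟶ G}
    (hφ : AutFam.IsHomFamily H G φ) : AutFam.IsHomFamily (Red.bc p H) (Red.bc p G) (trFam t φ) := fun V g₁ g₂ s => by
  apply tr_injective
  rw [tr_mul, tr_lift_trFam, tr_lift_trFam, tr_lift_trFam, tr_mul]
  exact hφ _ _ _ _

variable {A : Over S'}

/-- the structure map of a scheme over `S'` seen over `S` -/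
noncomputable def strMap (p : S' ⟶ S) (A : Over S') : (Over.map p).obj A ⟶ Over.mk p := Over.homMk A.hom

/-- the point of `A` of a point of `A` seen over `S` -/
noncomputable def pointUp {T : Over S} (t : T ⟶ Over.mk p) (z : T ⟶ (Over.map p).obj A)
    (hz : z ≫ strMap p A = t) : up t ⟶ A :=
  Over.homMk z.left (congrArg CommaMorphism.left hz)

/-- a family over `S'` seen over `S` -/
noncomputable def famDown (υ : Red.bc p H ⊗ A ⟶ Red.bc p G) : H ⊗ (Over.map p).obj A ⟶ G :=
  fwd (snd H ((Over.map p).obj A) ≫ strMap p A)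
    (lift (bwd _ (fst H ((Over.map p).obj A))) (pointUp _ (snd H ((Over.map p).obj A)) rfl) ≫ υ)

theorem lift_famDown (υ : Red.bc p H ⊗ A ⟶ Red.bc p G) {V : Over S'} (h : V ⟶ Red.bc p H) (s : V ⟶ A) :
    lift (tr h) ((Over.map p).map s) ≫ famDown υ = tr (lift h s ≫ υ) := by
  let w := snd H ((Over.map p).obj A) ≫ strMap p A
  let k : (Over.map p).obj V ⟶ H ⊗ (Over.map p).obj A := lift (tr h) ((Over.map p).map s)
  let i : V ⟶ up w := Over.homMk k.left (by
    have e : k ≫ w = (Over.map p).map s ≫ strMap p A := by simp [k, w]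
    exact (congrArg CommaMorphism.left e).trans (Over.w s))
  have hi : k ≫ jmap w = (Over.map p).map i := Over.OverMorphism.ext (Category.comp_id _)
  rw [famDown, fwd_eq, ← Category.assoc, hi, ← tr_comp, comp_lift_assoc]
  congr 3
  · apply tr_injective
    rw [tr_comp, ← hi, Category.assoc, ← fwd_eq, fwd_bwd, lift_fst]
  · have e : k ≫ snd H ((Over.map p).obj A) = (Over.map p).map s := lift_snd _ _
    exact Over.OverMorphism.ext ((congrArg CommaMorphism.left e :) )

theorem lift_famDown' (υ : Red.bc p H ⊗ A ⟶ Red.bc p G) {T : Over S} (g : T ⟶ H) (z : T ⟶ (Over.map p).obj A)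
    (t : T ⟶ Over.mk p) (hz : z ≫ strMap p A = t) :
    lift g z ≫ famDown υ = fwd t (lift (bwd t g) (pointUp t z hz) ≫ υ) := by
  rw [fwd_eq, ← lift_famDown, comp_lift_assoc, ← fwd_eq, fwd_bwd]
  congr 2

theorem isHomFamily_famDown {υ : Red.bc p H ⊗ A ⟶ Red.bc p G}
    (hυ : AutFam.IsHomFamily (Red.bc p H) (Red.bc p G) υ) : AutFam.IsHomFamily H G (famDown υ) := fun T g₁ g₂ z => by
  rw [lift_famDown' υ _ z _ rfl, lift_famDown' υ _ z _ rfl, lift_famDown' υ _ z _ rfl, bwd_mul, hυ, fwd_mul]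

theorem famDown_iff (υ : Red.bc p H ⊗ A ⟶ Red.bc p G) {T : Over S} (φ : H ⊗ T ⟶ G) (z : T ⟶ (Over.map p).obj A)
    (t : T ⟶ Over.mk p) (hz : z ≫ strMap p A = t) :
    (H ◁ z) ≫ famDown υ = φ ↔ (Red.bc p H ◁ pointUp t z hz) ≫ υ = trFam t φ := by
  constructor
  · intro e
    apply tr_injective
    have hr := tr_lift_trFam t φ (fst (Red.bc p H) (up t)) (snd _ _)
    rw [lift_fst_snd, Category.id_comp] at hr
    rw [hr, whiskerLeft_eq_lift, ← lift_famDown, ← e, lift_whiskerLeft_assoc]
    congr 2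
  · intro e
    let w := snd H T ≫ t
    let s' : up w ⟶ up t := Over.homMk (snd H T).left
    have hw : (snd H T ≫ z) ≫ strMap p A = w := by rw [Category.assoc, hz]
    have e2 : pointUp w (snd H T ≫ z) hw = s' ≫ pointUp t z hz := Over.OverMorphism.ext rfl
    rw [whiskerLeft_eq_lift, lift_famDown' υ _ _ w hw, e2,
      show lift (bwd w (fst H T)) (s' ≫ pointUp t z hz) ≫ υ = lift (bwd w (fst H T)) s' ≫ trFam t φ by
        rw [← e, lift_whiskerLeft_assoc],
      fwd_eq, tr_lift_trFam, comp_lift_assoc, ← fwd_eq, fwd_bwd]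
    have e3 : jmap w ≫ (Over.map p).map s' ≫ back t = snd H T :=
      Over.OverMorphism.ext ((Category.id_comp _).trans (Category.comp_id _))
    rw [e3, lift_fst_snd, Category.id_comp]

end Groth.Agent.H21Desc
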