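import Groth.Agent.H21Desc.Family
import Groth.Agent.H27Witt.Fn
import Mathlib.RingTheory.Flat.Basic

/-!
An isomorphism of affine group schemes of finite type over a field extension of an algebraically closed field
descends to that field.
-/

open CategoryTheory MonoidalCategory CartesianMonoidalCategory MonObj AlgebraicGeometry TensorProduct

set_option linter.style.haveILetI false

set_option synthInstance.maxHeartbeats 100000
set_option maxHeartbeats 1000000

universe u

namespace Groth.Agent.H21Desc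

open Groth.Agent.H27Witt

variable {k : Type u} [Field k]

/-- functions on a product -/
noncomputable def prodFn (X Y : Over (Sk k)) : Fn X ⊗[k] Fn Y →ₐ[k] Fn (X ⊗ Y) :=
  Algebra.TensorProduct.lift (Fn.pull (fst X Y)) (Fn.pull (snd X Y)) fun _ _ => Commute.all _ _

theorem prodFn_bijective (X Y : Over (Sk k)) [IsAffine X.left] [IsAffine Y.left] :
    Function.Bijective (prodFn X Y) := by
  let e := Fn.specAlg (k := k) (Fn X ⊗[k] Fn Y)
  let Z : Over (Sk k) := Over.mk (Spec.map (CommRingCat.ofHom (algebraMap k (Fn X ⊗[k] Fn Y))))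
  haveI : IsAffine Z.left := inferInstanceAs (IsAffine (Spec _))
  obtain ⟨p, hp⟩ := Fn.exists_hom (X := Z) (e.toAlgHom.comp Algebra.TensorProduct.includeLeft)
  obtain ⟨q, hq⟩ := Fn.exists_hom (X := Z) (e.toAlgHom.comp Algebra.TensorProduct.includeRight)
  refine ⟨fun a b h => e.injective ?_, fun f => ?_⟩
  · have key : (Fn.pull (lift p q)).comp (prodFn X Y) = e.toAlgHom := by
      refine Algebra.TensorProduct.ext' fun x y => ?_
      rw [AlgHom.comp_apply, prodFn, Algebra.TensorProduct.lift_tmul, map_mul, Fn.pull_pull, Fn.pull_pull,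
        lift_fst, lift_snd, hp, hq]
      simp [← map_mul]
    exact (AlgHom.congr_fun key a).symm.trans ((congrArg _ h).trans (AlgHom.congr_fun key b))
  · obtain ⟨n, a, b, rfl⟩ := Fn.exists_decomp f
    exact ⟨∑ i, a i ⊗ₜ b i, by simp [prodFn]⟩

theorem pull_whiskerLeft (X : Over (Sk k)) {T T' : Over (Sk k)} (π : T ⟶ T') :
    (Fn.pull (X ◁ π)).comp (prodFn X T') =
      (prodFn X T).comp (Algebra.TensorProduct.map (AlgHom.id k (Fn X)) (Fn.pull π)) := by
  refine Algebra.TensorProduct.ext' fun x y => ?_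
  simp only [prodFn, AlgHom.comp_apply, Algebra.TensorProduct.lift_tmul, Algebra.TensorProduct.map_tmul, map_mul,
    AlgHom.id_apply, Fn.pull_pull, whiskerLeft_fst, whiskerLeft_snd]

theorem pull_whiskerLeft_injective (X : Over (Sk k)) [IsAffine X.left] {T T' : Over (Sk k)} [IsAffine T.left]
    [IsAffine T'.left] (π : T ⟶ T') (hπ : Function.Injective (Fn.pull π)) :
    Function.Injective (Fn.pull (X ◁ π)) := by
  intro a b h
  obtain ⟨a, rfl⟩ := (prodFn_bijective X T').2 a
  obtain ⟨b, rfl⟩ := (prodFn_bijective X T').2 b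
  rw [← AlgHom.comp_apply, ← AlgHom.comp_apply, pull_whiskerLeft, AlgHom.comp_apply, AlgHom.comp_apply] at h
  exact congrArg _ (Module.Flat.lTensor_preserves_injective_linearMap (M := Fn X) (Fn.pull π).toLinearMap hπ
    ((prodFn_bijective X T).1 h))

/-- maps out of `X ⊗ T` into a finite type affine scheme see only finitely many functions on `T` -/
theorem exists_finset (X Y : Over (Sk k)) [IsAffine X.left] [IsAffine Y.left] [LocallyOfFiniteType Y.hom]
    (T : Over (Sk k)) [IsAffine T.left] (u : X ⊗ T ⟶ Y) :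
    ∃ F : Finset (Fn T), ∀ (T' : Over (Sk k)) [IsAffine T'.left] (π : T ⟶ T'), Function.Injective (Fn.pull π) →
      (F : Set (Fn T)) ⊆ (Fn.pull π).range → ∃ u' : X ⊗ T' ⟶ Y, (X ◁ π) ≫ u' = u := by
  classical
  haveI := Fn.finiteType Y
  obtain ⟨G, hG⟩ := (Algebra.FiniteType.out : (⊤ : Subalgebra k (Fn Y)).FG)
  choose n a b hab using fun g : Fn Y => Fn.exists_decomp (Fn.pull u g)
  refine ⟨G.biUnion fun g => Finset.univ.image (b g), fun T' _ π hπ hF => ?_⟩
  have hr : ∀ y, Fn.pull u y ∈ (Fn.pull (X ◁ π)).range := by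
    suffices h : (⊤ : Subalgebra k (Fn Y)) ≤ (Fn.pull (X ◁ π)).range.comap (Fn.pull u) from
      fun y => h (x := y) trivial
    rw [← hG, Algebra.adjoin_le_iff]
    intro g hg
    change Fn.pull u g ∈ (Fn.pull (X ◁ π)).range
    rw [hab g]
    refine Subalgebra.sum_mem _ fun i _ => ?_
    obtain ⟨c, hc⟩ := hF (Finset.mem_coe.mpr (Finset.mem_biUnion.mpr ⟨g, hg, Finset.mem_image_of_mem _ (Finset.mem_univ i)⟩))
    refine ⟨Fn.pull (fst X T') (a g i) * Fn.pull (snd X T') c, ?_⟩
    rw [← hc]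
    change Fn.pull (X ◁ π) _ = Fn.pull (fst X T) (a g i) * Fn.pull (snd X T) (Fn.pull π c)
    rw [map_mul, Fn.pull_pull, Fn.pull_pull, Fn.pull_pull, whiskerLeft_fst, whiskerLeft_snd]
  let e := AlgEquiv.ofInjective _ (pull_whiskerLeft_injective X π hπ)
  obtain ⟨u', hu'⟩ := Fn.exists_hom (X := X ⊗ T') (e.symm.toAlgHom.comp ((Fn.pull u).codRestrict _ hr))
  refine ⟨u', Fn.hom_ext (AlgHom.ext fun y => ?_)⟩
  rw [Fn.pull_comp, hu']
  exact congrArg Subtype.val (e.apply_symm_apply _)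

/-- an isomorphism family over a nonzero algebra has a member over the algebraically closed ground field -/
theorem exists_iso_of_isoFamily [IsAlgClosed k] {X Y T : Over (Sk k)} [GrpObj X] [GrpObj Y] [IsAffine X.left]
    [IsAffine Y.left] [LocallyOfFiniteType X.hom] [LocallyOfFiniteType Y.hom] [IsAffine T.left] [Nonempty T.left]
    (u : X ⊗ T ⟶ Y) (hu : AutFam.IsIsoFamily X Y u) : Nonempty (Grp.mk X ≅ Grp.mk Y) := by
  classical
  obtain ⟨hmul, v, huv, hvu⟩ := hu
  haveI : IsAffine (X ⊗ X).left := inferInstanceAs (IsAffine (Limits.pullback X.hom X.hom))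
  obtain ⟨F, hF⟩ := exists_finset X Y T u
  obtain ⟨F', hF'⟩ := exists_finset Y X T v
  let R : Subalgebra k (Fn T) := Algebra.adjoin k (↑(F ∪ F') : Set (Fn T))
  haveI : Algebra.FiniteType k R :=
    ⟨(Subalgebra.fg_top _).mpr (Subalgebra.fg_adjoin_finset (F ∪ F'))⟩
  let T' : Over (Sk k) := Over.mk (Spec.map (CommRingCat.ofHom (algebraMap k R)))
  haveI : IsAffine T'.left := inferInstanceAs (IsAffine (Spec _))
  let e := Fn.specAlg (k := k) R
  obtain ⟨π, hπ⟩ := Fn.exists_hom (X := T) (Y := T') (R.val.comp e.symm.toAlgHom)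
  have hπi : Function.Injective (Fn.pull π) := by
    rw [hπ]; exact Subtype.val_injective.comp e.symm.injective
  have hrange : ∀ x ∈ R, x ∈ (Fn.pull π).range := fun x hx => ⟨e ⟨x, hx⟩, by rw [hπ]; simp⟩
  obtain ⟨u', hu'⟩ := hF T' π hπi fun x hx =>
    hrange x (Algebra.subset_adjoin (Finset.mem_coe.mpr (Finset.mem_union_left _ (Finset.mem_coe.mp hx))))
  obtain ⟨v', hv'⟩ := hF' T' π hπi fun x hx =>
    hrange x (Algebra.subset_adjoin (Finset.mem_coe.mpr (Finset.mem_union_right _ (Finset.mem_coe.mp hx))))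
  have hcancel : ∀ {Z W : Over (Sk k)} [IsAffine Z.left] [IsAffine W.left] (f g : Z ⊗ T' ⟶ W),
      (Z ◁ π) ≫ f = (Z ◁ π) ≫ g → f = g := fun {Z W} _ _ f g h =>
    Fn.hom_ext (AlgHom.ext fun y => pull_whiskerLeft_injective Z π hπi
      (by rw [Fn.pull_pull, Fn.pull_pull, h]))
  -- the identities descend
  have hm : (μ[X] ▷ T') ≫ u' = ((fst X X ▷ T') ≫ u') * ((snd X X ▷ T') ≫ u') := by
    refine hcancel _ _ ?_
    rw [MonObj.comp_mul, whisker_exchange_assoc, whisker_exchange_assoc, whisker_exchange_assoc, hu']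
    have hw : ∀ {A B : Over (Sk k)} (f : A ⟶ B), f ▷ T = lift (fst A T ≫ f) (snd A T) := fun f => by
      ext <;> simp
    rw [hw μ[X], hw (fst X X), hw (snd X X),
      show fst (X ⊗ X) T ≫ μ[X] = (fst (X ⊗ X) T ≫ fst X X) * (fst (X ⊗ X) T ≫ snd X X) by
        rw [← MonObj.comp_mul, ← MonObj.mul_eq_mul],
      hmul]
  have hi₁ : lift u' (snd X T') ≫ v' = fst X T' := by
    refine hcancel _ _ ?_
    have e : (X ◁ π) ≫ lift u' (snd X T') = lift u (snd X T) ≫ (Y ◁ π) := by
      ext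
      · simp [hu']
      · simp
    rw [← Category.assoc, e, Category.assoc, hv', whiskerLeft_fst]
    simpa using huv _ (fst X T) (snd X T)
  have hi₂ : lift v' (snd Y T') ≫ u' = fst Y T' := by
    refine hcancel _ _ ?_
    have e : (Y ◁ π) ≫ lift v' (snd Y T') = lift v (snd Y T) ≫ (X ◁ π) := by
      ext
      · simp [hv']
      · simp
    rw [← Category.assoc, e, Category.assoc, hu', whiskerLeft_fst]
    simpa using hvu _ (fst Y T) (snd Y T)
  -- a rational point of the parameter space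
  haveI : Nonempty (⊤ : T.left.Opens) := ⟨⟨Classical.arbitrary _, trivial⟩⟩
  haveI : Nontrivial (Fn T) := inferInstanceAs (Nontrivial Γ(T.left, ⊤))
  obtain ⟨m, hmax⟩ := Ideal.exists_maximal R
  haveI := hmax
  letI := Ideal.Quotient.field m
  haveI : Module.Finite k (R ⧸ m) := finite_of_finite_type_of_isJacobsonRing k (R ⧸ m)
  haveI : Algebra.IsIntegral k (R ⧸ m) := Algebra.IsIntegral.of_finite k (R ⧸ m)
  let φ : R →ₐ[k] k := (AlgEquiv.ofBijective (Algebra.ofId k (R ⧸ m))
    (IsAlgClosed.algebraMap_bijective_of_isIntegral (k := k) (K := R ⧸ m))).symm.toAlgHom.comp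
      (Ideal.Quotient.mkₐ k m)
  obtain ⟨t, -⟩ := Fn.exists_point (X := T') (φ.comp e.symm.toAlgHom)
  let c : ∀ A : Over (Sk k), A ⟶ T' := fun A => toUnit A ≫ t
  have hc : ∀ {A B : Over (Sk k)} (f : A ⟶ B), f ≫ c B = c A := fun f => by
    simp [c, ← Category.assoc]
  let f : X ⟶ Y := lift (𝟙 X) (c X) ≫ u'
  let g : Y ⟶ X := lift (𝟙 Y) (c Y) ≫ v'
  have hfg : f ≫ g = 𝟙 X := by
    have e : f ≫ lift (𝟙 Y) (c Y) = lift (𝟙 X) (c X) ≫ lift u' (snd X T') := by
      refine CartesianMonoidalCategory.hom_ext _ _ ?_ ?_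
      · simp [f]
      · simpa using hc f
    change f ≫ lift (𝟙 Y) (c Y) ≫ v' = _
    rw [← Category.assoc, e, Category.assoc, hi₁, lift_fst]
  have hgf : g ≫ f = 𝟙 Y := by
    have e : g ≫ lift (𝟙 X) (c X) = lift (𝟙 Y) (c Y) ≫ lift v' (snd Y T') := by
      refine CartesianMonoidalCategory.hom_ext _ _ ?_ ?_
      · simp [g]
      · simpa using hc g
    change g ≫ lift (𝟙 X) (c X) ≫ u' = _
    rw [← Category.assoc, e, Category.assoc, hi₂, lift_fst]
  have hfm : μ[X] ≫ f = (f ⊗ₘ f) ≫ μ[Y] := by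
    have e : ∀ h : X ⊗ X ⟶ X, lift (𝟙 (X ⊗ X)) (c (X ⊗ X)) ≫ (h ▷ T') ≫ u' = h ≫ f := fun h => by
      change _ = h ≫ lift (𝟙 X) (c X) ≫ u'
      simp only [← Category.assoc]
      congr 1
      refine CartesianMonoidalCategory.hom_ext _ _ ?_ ?_
      · simp
      · simpa using (hc h).symm
    have e2 : (fst X X ≫ f) * (snd X X ≫ f) = (f ⊗ₘ f) ≫ μ[Y] := by
      rw [Hom.mul_def]
      congr 1
    rw [← e, hm, MonObj.comp_mul, e, e, e2]
  haveI : IsMonHom f :=
    { one_hom := by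
        have h : (η[X] ≫ f) * (η[X] ≫ f) = η[X] ≫ f := by
          conv_rhs => rw [show η[X] = lift (η[X]) (η[X]) ≫ μ[X] from (_root_.mul_one (η[X])).symm.trans (by
            rw [← Hom.mul_def]; congr 1)]
          rw [Category.assoc, hfm, lift_map_assoc, ← Hom.mul_def]
        exact (mul_eq_left.mp h).trans (by simp [Hom.one_def])
      mul_hom := hfm }
  exact ⟨Grp.mkIso' ⟨f, g, hfg, hgf⟩⟩

end Groth.Agent.H21Desc
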