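import Groth.Agent.H21Desc.DualGroup

/-!
The characters of a constant group form a diagonalisable group.
-/

open CategoryTheory MonoidalCategory CartesianMonoidalCategory MonObj GrpObj AlgebraicGeometry
open CategoryTheory.Limits Opposite Groth.Agent.H8Props.WeilRes

universe u

set_option backward.isDefEq.respectTransparency false
set_option maxHeartbeats 1000000
set_option linter.style.haveILetI false

namespace Groth.Agent.H21Desc

open Groth.Agent.H21Diag

variable {S : Scheme.{u}}

/-- morphisms agreeing near each point are equal -/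
theorem hom_ext_local {X Y : Over S} {f g : X ⟶ Y}
    (h : ∀ x : X.left, ∃ O : X.left.Opens, x ∈ O ∧ partIncl X O ≫ f = partIncl X O ≫ g) : f = g := by
  choose O hO he using h
  exact Over.OverMorphism.ext (Scheme.Cover.hom_ext (X.left.openCoverOfIsOpenCover O
    (eq_top_iff.mpr fun x _ => TopologicalSpace.Opens.mem_iSup.mpr ⟨x, hO x⟩)) _ _
    fun x => congrArg CommaMorphism.left (he x))

theorem exists_local_copy₂ (I : Type u) {T : Over S} (a b : T ⟶ TwC.const S I) (x : T.left) :
    ∃ (O : T.left.Opens) (i j : I), x ∈ O ∧ partIncl T O ≫ a = copy S I i (openPart T O) ∧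
      partIncl T O ≫ b = copy S I j (openPart T O) := by
  obtain ⟨O₁, i, hx₁, hi⟩ := exists_local_copy I a x
  obtain ⟨O₂, j, hx₂, hj⟩ := exists_local_copy I b x
  let l₁ : openPart T (O₁ ⊓ O₂) ⟶ openPart T O₁ :=
    Over.homMk (T.left.homOfLE inf_le_left) (Scheme.homOfLE_ι_assoc _ _ _)
  let l₂ : openPart T (O₁ ⊓ O₂) ⟶ openPart T O₂ :=
    Over.homMk (T.left.homOfLE inf_le_right) (Scheme.homOfLE_ι_assoc _ _ _)
  have h₁ : l₁ ≫ partIncl T O₁ = partIncl T (O₁ ⊓ O₂) := Over.OverMorphism.ext (T.left.homOfLE_ι inf_le_left)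
  have h₂ : l₂ ≫ partIncl T O₂ = partIncl T (O₁ ⊓ O₂) := Over.OverMorphism.ext (T.left.homOfLE_ι inf_le_right)
  refine ⟨O₁ ⊓ O₂, i, j, ⟨hx₁, hx₂⟩, ?_, ?_⟩
  · rw [← h₁, Category.assoc, hi, comp_copy]
  · rw [← h₂, Category.assoc, hj, comp_copy]

variable (S) in
/-- the value of a character at `m` -/
noncomputable abbrev ev {M : Type} [AddCommGroup M] (m : M) : Red.DS S M ⟶ Red.DS S ℤ :=
  Red.DSmap S (zmultiplesHom M m)

theorem ev_add {M : Type} [AddCommGroup M] (m n : M) : ev S (m + n) = ev S m * ev S n := by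
  have h : zmultiplesHom M (m + n) = zmultiplesHom M m + zmultiplesHom M n := AddMonoidHom.ext_int (by simp)
  exact (congrArg (Red.DSmap S) h).trans (DSmap_add _ _)

theorem exists_local_ev {M : Type} [AddCommGroup M] {T : Over S} (x : M → (T ⟶ Red.DS S ℤ))
    (hx : ∀ m n, x (m + n) = x m * x n) (z : T.left) :
    ∃ (C : Over S) (c : C ⟶ T) (a : C ⟶ Red.DS S M),
      IsOpenImmersion c.left ∧ z ∈ Set.range c.left ∧ ∀ m, a ≫ ev S m = c ≫ x m := by
  obtain ⟨B, y, t, ht, hz⟩ := exists_affine_point T z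
  choose θ hθ using fun m => gpt_surjective (idChart S ℤ) y (t ≫ x m)
  have hθadd : ∀ m n, θ (m + n) = θ m * θ n := fun m n => by
    refine gpt_injective (idChart S ℤ) y ?_
    rw [gpt_mul, hθ, hθ, hθ, hx]
    exact MonObj.comp_mul _ _ _
  have hθ0 : θ 0 = 1 := by
    have h1 := hθadd 0 0
    rw [add_zero] at h1
    refine MonoidHom.ext fun w => ?_
    have hu : IsUnit (θ 0 w) := IsUnit.map (θ 0) (Group.isUnit w)
    have h2 : θ 0 w * θ 0 w = θ 0 w * 1 := by
      rw [_root_.mul_one, ← MonoidHom.mul_apply, ← h1]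
    exact hu.mul_left_cancel h2
  let χ : Multiplicative M →* B :=
    { toFun := fun m => θ (Multiplicative.toAdd m) (Multiplicative.ofAdd 1)
      map_one' := by
        change θ 0 _ = 1
        rw [hθ0, MonoidHom.one_apply]
      map_mul' := fun m n => by
        change θ (Multiplicative.toAdd m + Multiplicative.toAdd n) _ = _
        rw [hθadd, MonoidHom.mul_apply] }
  refine ⟨_, t, gpt (idChart S M) y χ, ht, hz, fun m => ?_⟩
  rw [gpt_comp_DSmap, ← hθ]
  congr 1
  exact MonoidHom.ext_mint (by simp [χ])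

/-- a point of `D(M)` is a homomorphism of `M` into the multiplicative group -/
theorem existsUnique_ev {M : Type} [AddCommGroup M] {T : Over S} (x : M → (T ⟶ Red.DS S ℤ))
    (hx : ∀ m n, x (m + n) = x m * x n) : ∃! a : T ⟶ Red.DS S M, ∀ m, a ≫ ev S m = x m := by
  have inj : ∀ {T : Over S} (a a' : T ⟶ Red.DS S M), (∀ m, a ≫ ev S m = a' ≫ ev S m) → a = a' := by
    intro T a a' h
    refine Over.OverMorphism.ext (Scheme.Cover.hom_ext T.left.affineCover _ _ fun j => ?_)
    let X' := T.left.affineCover.X j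
    let k := X'.isoSpec.inv ≫ T.left.affineCover.f j
    rw [← cancel_epi X'.isoSpec.inv, ← Category.assoc, ← Category.assoc]
    change k ≫ a.left = k ≫ a'.left
    let q : Over.mk ((k ≫ T.hom) ≫ 𝟙 S) ⟶ T := Over.homMk k (Category.comp_id _).symm
    obtain ⟨χ, hχ⟩ := gpt_surjective (idChart S M) _ (q ≫ a)
    obtain ⟨χ', hχ'⟩ := gpt_surjective (idChart S M) _ (q ≫ a')
    have e : χ = χ' := MonoidHom.ext fun m => by
      have h1 := congrArg (q ≫ ·) (h (Multiplicative.toAdd m))
      simp only [← Category.assoc, ← hχ, ← hχ', gpt_comp_DSmap] at h1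
      have h2 := DFunLike.congr_fun (gpt_injective (idChart S ℤ) _ h1) (Multiplicative.ofAdd 1)
      simpa using h2
    rw [e, hχ'] at hχ
    exact (congrArg CommaMorphism.left hχ).symm
  have loc := exists_local_ev x hx
  choose C c a hc hz ha using loc
  obtain ⟨b, hb, -⟩ := isZariskiGluing_yoneda (Red.DS S M) T T.left C c hc (fun z => ⟨z, hz z⟩) a
    (fun z z' Z p q e => inj _ _ fun m => by
      change (p ≫ a z) ≫ _ = (q ≫ a z') ≫ _
      rw [Category.assoc, Category.assoc, ha, ha, ← Category.assoc, ← Category.assoc, e])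
  have hb' : ∀ m, b ≫ ev S m = x m := fun m =>
    (isZariskiGluing_yoneda (Red.DS S ℤ) T T.left C c hc (fun z => ⟨z, hz z⟩) (fun z => c z ≫ x m)
      (fun z z' Z p q e => by
        change p ≫ c z ≫ x m = q ≫ c z' ≫ x m
        rw [← Category.assoc, ← Category.assoc, e])).unique
      (fun z => by
        change c z ≫ b ≫ ev S m = c z ≫ x m
        rw [← Category.assoc, show c z ≫ b = a z from hb z, ha])
      (fun z => rfl)
  exact ⟨b, hb', fun b' hb'' => inj _ _ fun m => (hb'' m).trans (hb' m).symm⟩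

/-- the characters of a constant commutative group form a diagonalisable group -/
theorem exists_representsHom_const {R : Over S} [GrpObj R] {M : Type} [CommGroup M]
    (ε : R ≅ TwC.const S M) (hR : TwC.IsConstGrp M R ε) :
    ∃ υ : R ⊗ Red.DS S (Additive M) ⟶ Red.Gm S,
      AutFam.RepresentsHom R (Red.Gm S) (Red.DS S (Additive M)) υ ∧
      ∀ (X : Over S) (r : X ⟶ R) (a b : X ⟶ Red.DS S (Additive M)),
        lift r (a * b) ≫ υ = (lift r a ≫ υ) * (lift r b ≫ υ) := by
  let I := ULift.{u} M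
  let toI : TwC.const S M ≅ TwC.const S I :=
    { hom := TwC.constMap S (ULift.up : M → I)
      inv := TwC.constMap S (ULift.down : I → M)
      hom_inv_id := Over.OverMorphism.ext (Sigma.hom_ext _ _ fun m => by simp [TwC.constMap])
      inv_hom_id := Over.OverMorphism.ext (Sigma.hom_ext _ _ fun m => by
        simp [TwC.constMap]
        rfl) }
  let η' := ε ≪≫ toI
  let ptR : ∀ i : I, 𝟙_ (Over S) ⟶ R := fun i => TwC.pt S M i.down ≫ ε.inv
  have hpt : ∀ (i : I) (X : Over S), toUnit X ≫ ptR i = copy S I i X ≫ η'.inv := by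
    intro i X
    rw [← cancel_mono η'.hom]
    simp only [Category.assoc, η', ptR, Iso.trans_hom, Iso.trans_inv, Iso.inv_hom_id_assoc, Iso.inv_hom_id,
      Category.comp_id, toI]
    refine Over.OverMorphism.ext ?_
    simp [TwC.pt, TwC.constMap, copy]
  have hmul : ∀ (i j : I) (X : Over S),
      (toUnit X ≫ ptR i) * (toUnit X ≫ ptR j) = toUnit X ≫ ptR ⟨i.down * j.down⟩ := fun i j X => by
    rw [← MonObj.comp_mul]
    exact congrArg (toUnit X ≫ ·) (hR i.down j.down)
  -- every point is locally constant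
  have hloc : ∀ {X : Over S} (r r' : X ⟶ R) (x : X.left), ∃ (O : X.left.Opens) (i j : I), x ∈ O ∧
      partIncl X O ≫ r = toUnit _ ≫ ptR i ∧ partIncl X O ≫ r' = toUnit _ ≫ ptR j := by
    intro X r r' x
    obtain ⟨O, i, j, hx, hi, hj⟩ := exists_local_copy₂ I (r ≫ η'.hom) (r' ≫ η'.hom) x
    exact ⟨O, i, j, hx, by rw [hpt, ← hi]; simp, by rw [hpt, ← hj]; simp⟩
  let D := Red.DS S (Additive M)
  let P := R ⊗ D
  let u₀ : P ⟶ TwC.const S I := fst R D ≫ η'.hom
  let O : I → P.left.Opens := fun i => u₀.left ⁻¹ᵁ (Sigma.ι (fun _ : I => S) i).opensRange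
  obtain ⟨υ, hυ, -⟩ := isZariskiGluing_yoneda (Red.Gm S) P I (fun i => openPart P (O i))
    (fun i => partIncl P (O i)) (fun i => inferInstanceAs (IsOpenImmersion (O i).ι))
    (fun x => by
      obtain ⟨i, z, hz⟩ := (sigmaOpenCover fun _ : I => S).exists_eq (u₀.left x)
      exact ⟨i, ⟨x, ⟨z, hz⟩⟩, rfl⟩)
    (fun i => partIncl P (O i) ≫ snd R D ≫ ev S (Additive.ofMul i.down))
    (fun i j Z a b e => by
      change a ≫ partIncl P (O i) ≫ _ = b ≫ partIncl P (O j) ≫ _
      by_cases hij : i = j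
      · subst hij
        rw [← Category.assoc, ← Category.assoc b, e]
      · have : IsEmpty Z.left := ⟨fun z => by
          have e1 : (O i).ι (a.left z) = (O j).ι (b.left z) :=
            congrArg (fun m : Z ⟶ P => m.left z) e
          obtain ⟨w, hw⟩ := (a.left z).2
          obtain ⟨w', hw'⟩ := (b.left z).2
          have e2 := hw.trans ((congrArg u₀.left e1).trans hw'.symm)
          exact hij (congrArg Sigma.fst ((sigmaMk fun _ : I => S).injective (a₁ := ⟨i, w⟩) (a₂ := ⟨j, w'⟩)
            (by rw [sigmaMk_mk, sigmaMk_mk]; exact e2)))⟩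
        exact Over.OverMorphism.ext ((isInitialOfIsEmpty).hom_ext _ _))
  replace hυ : ∀ i, partIncl P (O i) ≫ υ = partIncl P (O i) ≫ snd R D ≫ ev S (Additive.ofMul i.down) := hυ
  have key : ∀ {X : Over S} (i : I) (d : X ⟶ D),
      lift (toUnit X ≫ ptR i) d ≫ υ = d ≫ ev S (Additive.ofMul i.down) := by
    intro X i d
    let k : X ⟶ P := lift (toUnit X ≫ ptR i) d
    have hk : k ≫ u₀ = copy S I i X := by
      simp only [k, u₀, lift_fst_assoc, hpt, Category.assoc, Iso.inv_hom_id, Category.comp_id]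
    have hr : Set.range k.left ⊆ Set.range (O i).ι := by
      rintro _ ⟨z, rfl⟩
      rw [Scheme.Opens.range_ι]
      refine ⟨X.hom z, ?_⟩
      have h1 := congrArg (fun m : X ⟶ TwC.const S I => m.left z) hk
      exact ((Scheme.Hom.comp_apply _ _ _).symm.trans h1.symm).trans (Scheme.Hom.comp_apply _ _ _)
    let l : X ⟶ openPart P (O i) := Over.homMk (IsOpenImmersion.lift (O i).ι k.left hr) (by
      change _ ≫ (O i).ι ≫ P.hom = X.hom
      rw [IsOpenImmersion.lift_fac_assoc, Over.w k])
    have hl : l ≫ partIncl P (O i) = k := Over.OverMorphism.ext (IsOpenImmersion.lift_fac _ _ _)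
    rw [show lift (toUnit X ≫ ptR i) d = k from rfl, ← hl, Category.assoc, hυ, ← Category.assoc, hl]
    simp only [k, lift_snd_assoc]
  refine ⟨υ, ⟨fun X g₁ g₂ t => hom_ext_local fun x => ?_, fun T φ hφ => ?_⟩,
    fun X r a b => hom_ext_local fun x => ?_⟩
  · obtain ⟨W, i, j, hx, hi, hj⟩ := hloc g₁ g₂ x
    refine ⟨W, hx, ?_⟩
    rw [MonObj.comp_mul, comp_lift_assoc, comp_lift_assoc, comp_lift_assoc, MonObj.comp_mul, hi, hj, hmul, key,
      key, key, ← MonObj.comp_mul, ← ev_add]
    rfl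
  · let xm : Additive M → (T ⟶ Red.DS S ℤ) := fun m =>
      lift (toUnit T ≫ ptR ⟨Additive.toMul m⟩) (𝟙 T) ≫ φ
    obtain ⟨a, ha, hau⟩ := existsUnique_ev xm (fun m n => by
      simp only [xm]
      rw [← hφ, hmul]
      rfl)
    refine ⟨a, hom_ext_local fun x => ?_, fun a' ha' => hau a' fun m => ?_⟩
    · obtain ⟨W, i, -, hx, hi, -⟩ := hloc (fst R T) (fst R T) x
      refine ⟨W, hx, ?_⟩
      let k := partIncl (R ⊗ T) W
      have e : k ≫ snd R T = k ≫ snd R T := rfl
      calc k ≫ (R ◁ a) ≫ υ = lift (toUnit _ ≫ ptR i) ((k ≫ snd R T) ≫ a) ≫ υ := by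
            rw [whiskerLeft_eq_lift, comp_lift_assoc, hi, Category.assoc]
        _ = (k ≫ snd R T) ≫ xm (Additive.ofMul i.down) := by
            rw [key, Category.assoc, ha]
        _ = k ≫ φ := by
            simp only [xm, comp_lift_assoc, Category.comp_id, ← Category.assoc _ (toUnit T), comp_toUnit]
            rw [show (⟨Additive.toMul (Additive.ofMul i.down)⟩ : I) = i from rfl, ← hi, ← comp_lift_assoc,
              lift_fst_snd, Category.id_comp]
    · simp only [xm]
      rw [← ha', lift_whiskerLeft_assoc, Category.id_comp, key]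
      rfl
  · obtain ⟨W, i, -, hx, hi, -⟩ := hloc r r x
    refine ⟨W, hx, ?_⟩
    rw [MonObj.comp_mul, comp_lift_assoc, comp_lift_assoc, comp_lift_assoc, hi, key, key, key, MonObj.comp_mul]
    exact MonObj.mul_comp _ _ (ev S (Additive.ofMul i.down))

end Groth.Agent.H21Desc
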