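import Mathlib

/-!
Base change of constant schemes; radiciality at a point.
-/

open CategoryTheory CategoryTheory.Limits AlgebraicGeometry

universe u

set_option linter.style.haveILetI false

namespace Groth.Agent.H21Desc

/-- base change of a constant scheme along any morphism -/
theorem isPullback_constAny {U V : Scheme.{u}} (ε : V ⟶ U) (I : Type u) :
    IsPullback (Sigma.desc fun j => ε ≫ Sigma.ι (fun _ : I => U) j)
      (Sigma.desc fun _ : I => 𝟙 V) (Sigma.desc fun _ : I => 𝟙 U) ε := by
  let d := Sigma.desc fun _ : I => 𝟙 U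
  let β : I → (V ⟶ pullback d ε) := fun i => pullback.lift (ε ≫ Sigma.ι (fun _ : I => U) i) (𝟙 V) (by simp [d])
  have hβ : ∀ i, IsPullback (β i) ε (pullback.fst d ε) (Sigma.ι (fun _ : I => U) i) := fun i => by
    refine IsPullback.of_right ?_ (pullback.lift_fst _ _ _) (IsPullback.of_hasPullback d ε).flip
    rw [show β i ≫ pullback.snd d ε = 𝟙 V from pullback.lift_snd _ _ _,
      show Sigma.ι (fun _ : I => U) i ≫ d = 𝟙 U from Sigma.ι_desc _ _]
    exact IsPullback.of_horiz_isIso ⟨by simp⟩
  haveI : ∀ i, IsOpenImmersion (β i) := fun i => MorphismProperty.of_isPullback (hβ i).flip inferInstance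
  have hfst : ∀ i x, pullback.fst d ε (β i x) = Sigma.ι (fun _ : I => U) i (ε x) := fun i x => by
    rw [← Scheme.Hom.comp_apply, ← Scheme.Hom.comp_apply, (hβ i).w]
  haveI : IsOpenImmersion (Sigma.desc β) := isOpenImmersion_sigmaDesc _ β fun i j hij => by
    refine Set.disjoint_left.mpr ?_
    rintro _ ⟨x, rfl⟩ ⟨y, hy⟩
    have := congrArg (pullback.fst d ε) hy
    rw [hfst, hfst] at this
    exact hij (congrArg Sigma.fst ((sigmaMk fun _ : I => U).injective (a₁ := ⟨j, ε y⟩) (a₂ := ⟨i, ε x⟩)
      (by rw [sigmaMk_mk, sigmaMk_mk]; exact this))).symm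
  haveI : Surjective (Sigma.desc β) := ⟨fun p => by
    obtain ⟨⟨i, z⟩, hz⟩ := (sigmaMk fun _ : I => U).surjective (pullback.fst d ε p)
    rw [sigmaMk_mk] at hz
    have : p ∈ Set.range (β i) := by
      rw [← (hβ i).isoPullback_hom_fst, Scheme.Hom.comp_base, TopCat.coe_comp, Set.range_comp,
        Set.range_eq_univ.mpr (hβ i).isoPullback.hom.surjective, Set.image_univ, Scheme.Pullback.range_fst]
      exact ⟨z, hz⟩
    obtain ⟨x, rfl⟩ := this
    exact ⟨Sigma.ι (fun _ : I => V) i x, by rw [← Scheme.Hom.comp_apply, Sigma.ι_desc]⟩⟩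
  haveI : IsIso (Sigma.desc β) := (isIso_iff_isOpenImmersion_and_surjective _).mpr ⟨inferInstance, inferInstance⟩
  refine IsPullback.of_iso_pullback ⟨Sigma.hom_ext _ _ fun i => by simp⟩ (asIso (Sigma.desc β))
    (Sigma.hom_ext _ _ fun i => by
      rw [asIso_hom, Sigma.ι_desc_assoc, Sigma.ι_desc]; exact pullback.lift_fst _ _ _)
    (Sigma.hom_ext _ _ fun i => by
      rw [asIso_hom, Sigma.ι_desc_assoc, Sigma.ι_desc]; exact pullback.lift_snd _ _ _)

/-- radiciality at a point from the residue field extension -/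
theorem universallyInjective_of_residue {P U T O : Scheme.{u}} (q : P ⟶ U) (o : O ⟶ U)
    (h : T ⟶ O) (j : T ⟶ P) [IsOpenImmersion j] (hj : h ≫ o = j ≫ q) (t : T)
    (hpi : letI := (q.residueFieldMap (j t)).hom.toAlgebra
      IsPurelyInseparable (U.residueField (q (j t))) (P.residueField (j t))) :
    UniversallyInjective (T.fromSpecResidueField t ≫ h) := by
  refine ((tfae_universallyInjective (T.fromSpecResidueField t ≫ h)).out 1 0).mp ?_
  intro K instK g₁ g₂ hg
  obtain ⟨σ₁, rfl⟩ := Spec.map_surjective (R := T.residueField t) (S := CommRingCat.of K) g₁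
  obtain ⟨σ₂, rfl⟩ := Spec.map_surjective (R := T.residueField t) (S := CommRingCat.of K) g₂
  have h2 := congrArg (· ≫ o) hg
  simp only [Category.assoc, hj] at h2
  rw [← Scheme.Hom.SpecMap_residueFieldMap_fromSpecResidueField_assoc,
    ← Scheme.Hom.SpecMap_residueFieldMap_fromSpecResidueField] at h2
  simp only [← Category.assoc, cancel_mono, ← Spec.map_comp] at h2
  have h3 := Spec.map_injective h2
  haveI : IsIso (j.residueFieldMap t) := inferInstance
  letI := (q.residueFieldMap (j t)).hom.toAlgebra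
  haveI := hpi
  have h4 : j.residueFieldMap t ≫ σ₁ = j.residueFieldMap t ≫ σ₂ := CommRingCat.hom_ext
    (IsPurelyInseparable.injective_comp_algebraMap (U.residueField (q (j t))) (P.residueField (j t)) K
      (by simpa [RingHom.algebraMap_toAlgebra, Category.assoc, RingHom.comp_assoc] using congrArg CommRingCat.Hom.hom h3))
  rw [(cancel_epi _).mp h4]

end Groth.Agent.H21Desc
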