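import Groth.Agent.H13Desc.Eff.Cover
import Mathlib.AlgebraicGeometry.Morphisms.Flat
import Mathlib.AlgebraicGeometry.Morphisms.FinitePresentation

/-!
A flat surjection onto every affine open of which a quasi-compact open maps is an fpqc covering.
-/

open CategoryTheory CategoryTheory.Limits AlgebraicGeometry

universe u

set_option backward.isDefEq.respectTransparency false

namespace Groth.Agent.H21Desc

variable {S S' : Scheme.{u}}

theorem isCover_of_qc (f : S' ⟶ S) [Flat f] [Surjective f]
    (h : ∀ V : S.Opens, IsAffineOpen V → ∃ W : S'.Opens, IsCompact (W : Set S') ∧ f.base '' (W : Set S') = (V : Set S)) :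
    H13Desc.Eff.IsCover f := ⟨by
  refine ⟨?_, ?_⟩
  · rw [← Presieve.ofArrows_pUnit.{u}]
    let E : PreZeroHypercover.{u} S := ⟨PUnit.{u + 1}, fun _ => S', fun _ => f⟩
    change E.presieve₀ ∈ Scheme.qcPrecoverage S
    rw [Scheme.presieve₀_mem_qcPrecoverage_iff]
    refine ⟨fun {V} hV => ?_⟩
    obtain ⟨W, hW, hWV⟩ := h V hV
    refine IsCompactOpenCovered.of_finite (κ := PUnit.{1}) (fun _ => PUnit.unit) (fun _ => W) (fun _ => hW) ?_
    rw [Set.iUnion_const]
    exact hWV
  · exact (Scheme.singleton_mem_precoverage_iff (P := @Flat) f).mpr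
      ⟨f.surjective, (inferInstance : Flat f)⟩⟩

/-- on the disjoint union of an open cover of the covering scheme -/
theorem isCover_sigma_opens (f : S' ⟶ S) [Flat f] [Surjective f]
    (h : ∀ V : S.Opens, IsAffineOpen V → ∃ W : S'.Opens, IsCompact (W : Set S') ∧ f.base '' (W : Set S') = (V : Set S))
    {I : Type u} (O : I → S'.Opens) (hO : ∀ x : S', ∃ i, x ∈ O i) :
    H13Desc.Eff.IsCover (Sigma.desc fun i => (O i).ι ≫ f) := by
  classical
  let π : (∐ fun i => (O i).toScheme) ⟶ S' := Sigma.desc fun i => (O i).ι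
  have hπ : ∀ i, Sigma.ι (fun i => (O i).toScheme) i ≫ π = (O i).ι := fun i => Sigma.ι_desc _ _
  have : Surjective π := ⟨fun x => by
    obtain ⟨i, hi⟩ := hO x
    exact ⟨Sigma.ι (fun i => (O i).toScheme) i ⟨x, hi⟩,
      (Scheme.Hom.comp_apply _ _ _).symm.trans (congrArg (fun m => m.base ⟨x, hi⟩) (hπ i))⟩⟩
  have : Flat π := IsZariskiLocalAtSource.sigmaDesc (P := @Flat) inferInstance
  have hop : IsOpenMap π :=
    have : LocallyOfFinitePresentation π :=
      IsZariskiLocalAtSource.sigmaDesc (P := @LocallyOfFinitePresentation) inferInstance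
    π.isOpenMap
  have e : (Sigma.desc fun i => (O i).ι ≫ f) = π ≫ f := Sigma.hom_ext _ _ fun i => by
    rw [Sigma.ι_desc, ← Category.assoc, hπ]
  rw [e]
  refine isCover_of_qc (π ≫ f) fun V hV => ?_
  obtain ⟨W, hW, hWV⟩ := h V hV
  -- lift the quasi-compact open through the open surjection
  obtain ⟨Q, hQ, hQW⟩ := hop.exists_opens_image_eq_of_prespectralSpace π.continuous
    (U := (W : Set S')) (fun x _ => π.surjective x) W.2 hW
  refine ⟨Q, hQ, ?_⟩
  rw [Scheme.Hom.comp_base, TopCat.coe_comp, Set.image_comp, hQW, hWV]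

end Groth.Agent.H21Desc
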