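import Groth.Agent.H21Desc.ConstHom
import Groth.Agent.H21Desc.CoverQc
import Groth.Agent.H15Magnet.AffineRep

/-!
The dual of a commutative twisted constant group.
-/

open CategoryTheory MonoidalCategory CartesianMonoidalCategory MonObj GrpObj AlgebraicGeometry
open CategoryTheory.Limits

universe u

set_option backward.isDefEq.respectTransparency false
set_option maxHeartbeats 1000000
set_option linter.style.haveILetI false

namespace Groth.Agent.H21Desc

variable {S : Scheme.{u}}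

/-- two groups of homomorphisms are isomorphic -/
theorem nonempty_grpIso_of_representsHom {H G A B : Over S} [GrpObj H] [GrpObj G] [GrpObj A] [GrpObj B]
    {υ : H ⊗ A ⟶ G} {υ' : H ⊗ B ⟶ G} (hA : AutFam.RepresentsHom H G A υ) (hB : AutFam.RepresentsHom H G B υ')
    (hmA : ∀ (X : Over S) (h : X ⟶ H) (a b : X ⟶ A), lift h (a * b) ≫ υ = (lift h a ≫ υ) * (lift h b ≫ υ))
    (hmB : ∀ (X : Over S) (h : X ⟶ H) (a b : X ⟶ B), lift h (a * b) ≫ υ' = (lift h a ≫ υ') * (lift h b ≫ υ')) :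
    Nonempty (Grp.mk A ≅ Grp.mk B) := by
  obtain ⟨a, ha, -⟩ := hB.2 _ _ hA.1
  obtain ⟨b, hb, -⟩ := hA.2 _ _ hB.1
  let ε : A ≅ B :=
    { hom := a, inv := b
      hom_inv_id := (hA.2 _ _ hA.1).unique (by rw [MonoidalCategory.whiskerLeft_comp_assoc, hb, ha])
        (by rw [MonoidalCategory.whiskerLeft_id, Category.id_comp])
      inv_hom_id := (hB.2 _ _ hB.1).unique (by rw [MonoidalCategory.whiskerLeft_comp_assoc, ha, hb])
        (by rw [MonoidalCategory.whiskerLeft_id, Category.id_comp]) }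
  have : IsMonHom ε.hom := H21Diag.isMonHom_of_mul _ fun {T} p q => by
    refine (hB.2 _ _ (isHomFamily_whisker H G ((p * q) ≫ a) hB.1)).unique rfl ?_
    rw [MonoidalCategory.whiskerLeft_comp_assoc, ha, whiskerLeft_eq_lift, whiskerLeft_eq_lift, MonObj.comp_mul,
      MonObj.comp_mul, hmA, hmB]
    congr 1
    all_goals
      simp only [← whiskerLeft_eq_lift, MonoidalCategory.whiskerLeft_comp_assoc, ← ha]
      rfl
  exact ⟨Grp.mkIso' ε⟩

set_option backward.isDefEq.respectTransparency true in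
/-- groups of characters -/
theorem exists_grpObj_Gm {H A : Over S} [GrpObj H] {υ : H ⊗ A ⟶ Red.Gm S}
    (hA : AutFam.RepresentsHom H (Red.Gm S) A υ) :
    ∃ _ : GrpObj A, ∀ (X : Over S) (h : X ⟶ H) (a b : X ⟶ A),
      lift h (a * b) ≫ υ = (lift h a ≫ υ) * (lift h b ≫ υ) :=
  exists_grpObj (fun {_} a b => H21Diag.comm_of_chart (H21Diag.idChart S ℤ) a b) hA

/-- transport of multiplicativity -/
theorem mul_transport {H H' G G' A : Over S} [GrpObj H] [GrpObj H'] [GrpObj G] [GrpObj G'] [GrpObj A]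
    (α : Grp.mk H ≅ Grp.mk H') (β : Grp.mk G ≅ Grp.mk G') {υ : H' ⊗ A ⟶ G'}
    (hm : ∀ (X : Over S) (h : X ⟶ H') (a b : X ⟶ A), lift h (a * b) ≫ υ = (lift h a ≫ υ) * (lift h b ≫ υ))
    (X : Over S) (h : X ⟶ H) (a b : X ⟶ A) :
    lift h (a * b) ≫ (α.hom.hom.hom ▷ A) ≫ υ ≫ β.inv.hom.hom =
      (lift h a ≫ (α.hom.hom.hom ▷ A) ≫ υ ≫ β.inv.hom.hom) * (lift h b ≫ (α.hom.hom.hom ▷ A) ≫ υ ≫ β.inv.hom.hom) := by
  simp only [lift_whiskerRight_assoc]
  rw [← Category.assoc, hm, MonObj.mul_comp]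
  simp only [Category.assoc]

/-- a constant group over a nonempty base which is commutative has commutative index group -/
theorem mul_comm_of_isConstGrp {V : Scheme.{u}} [Nonempty V] {M : Type} [Group M] {R : Over V} [GrpObj R]
    (e : R ≅ TwC.const V M) (he : TwC.IsConstGrp M R e) (hc : ∀ (X : Over V) (a b : X ⟶ R), a * b = b * a)
    (m n : M) : m * n = n * m := by
  have h := (he m n).symm.trans ((hc _ _ _).trans (he n m))
  rw [cancel_mono] at h
  obtain ⟨v⟩ := ‹Nonempty V›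
  have h1 := congrArg (fun k : 𝟙_ (Over V) ⟶ TwC.const V M => k.left v) h
  have : Small.{u} M := inferInstance
  simp only [TwC.pt, Over.homMk_left] at h1
  by_contra hne
  have hd := disjoint_opensRange_sigmaι (fun _ : M => V) _ _ hne
  have hmem : Sigma.ι (fun _ : M => V) (m * n) v ∈
      (Sigma.ι (fun _ : M => V) (m * n)).opensRange ⊓ (Sigma.ι (fun _ : M => V) (n * m)).opensRange :=
    ⟨⟨v, rfl⟩, ⟨v, h1.symm⟩⟩
  exact (TopologicalSpace.Opens.mem_bot).mp (hd.eq_bot ▸ hmem)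

/-- affine schemes of homomorphisms on an fpqc covering by opens descend -/
theorem exists_representsHom_of_affine {H G : Over S} [GrpObj H] [GrpObj G] {S' : Scheme.{u}} (f : S' ⟶ S) [Flat f]
    [Surjective f]
    (hqc : ∀ V : S.Opens, IsAffineOpen V → ∃ W : S'.Opens, IsCompact (W : Set S') ∧ f.base '' (W : Set S') = (V : Set S))
    (O : S' → S'.Opens) (hO : ∀ x, x ∈ O x) {A : ∀ x, Over (O x).toScheme}
    {υ : ∀ x, Red.bc ((O x).ι ≫ f) H ⊗ A x ⟶ Red.bc ((O x).ι ≫ f) G}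
    (hA : ∀ x, AutFam.RepresentsHom (Red.bc ((O x).ι ≫ f) H) (Red.bc ((O x).ι ≫ f) G) (A x) (υ x))
    (haff : ∀ x, IsAffineHom (A x).hom) :
    ∃ (D : Over S) (υ₀ : H ⊗ D ⟶ G), AutFam.RepresentsHom H G D υ₀ := by
  let g : ∀ x : S', (O x : Scheme.{u}) ⟶ S := fun x => (O x).ι ≫ f
  have : H13Desc.Eff.IsCover (Sigma.desc g) := isCover_sigma_opens f hqc O fun x => ⟨x, hO x⟩
  obtain ⟨D, υ₀, h, -, -⟩ := exists_representsHom_of_fpqc_cover (g := g) hA (fun E hE => by
    have : IsAffineHom E.obj.hom := hE @IsAffineHom haff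
    have : Surjective (Sigma.desc g) := ⟨fun s => by
      obtain ⟨y, hy⟩ := f.surjective s
      refine ⟨Sigma.ι (fun x => (O x).toScheme) y ⟨y, hO y⟩, ?_⟩
      rw [← Scheme.Hom.comp_apply, Sigma.ι_desc]
      exact hy⟩
    have : Flat (Sigma.desc g) := IsZariskiLocalAtSource.sigmaDesc (P := @Flat) inferInstance
    exact H15Magnet.AffineRep.isEffective_affine (Sigma.desc g) E)
  exact ⟨D, υ₀, h⟩

end Groth.Agent.H21Desc
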