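import Groth.Agent.H21Desc.HomLocal
import Groth.Agent.H21Desc.DiagHom
import Groth.Agent.H13Desc.Eff.Lqf
import Groth.Agent.H12AlgSp.HilbQuot
import Groth.Agent.H21Diag.BaseChange

/-!
Homomorphisms between quasi-isotrivial groups of multiplicative type form a twisted constant scheme.
-/

open CategoryTheory MonoidalCategory CartesianMonoidalCategory MonObj GrpObj AlgebraicGeometry
open CategoryTheory.Limits

universe u

set_option backward.isDefEq.respectTransparency false
set_option backward.isDefEq.respectTransparency.types false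

namespace Groth.Agent.H21Desc

variable {S : Scheme.{u}}

/-- transport of schemes of homomorphisms along isomorphisms of groups -/
theorem representsHom_of_iso {H H' G G' : Over S} [GrpObj H] [GrpObj H'] [GrpObj G] [GrpObj G']
    (α : Grp.mk H ≅ Grp.mk H') (β : Grp.mk G ≅ Grp.mk G') {A : Over S} {υ : H' ⊗ A ⟶ G'}
    (h : AutFam.RepresentsHom H' G' A υ) :
    AutFam.RepresentsHom H G A ((α.hom.hom.hom ▷ A) ≫ υ ≫ β.inv.hom.hom) := by
  obtain ⟨a₁, a₂⟩ : α.inv.hom.hom ≫ α.hom.hom.hom = 𝟙 H' ∧ α.hom.hom.hom ≫ α.inv.hom.hom = 𝟙 H :=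
    ⟨congrArg (fun f : Grp.mk H' ⟶ Grp.mk H' => f.hom.hom) α.inv_hom_id,
      congrArg (fun f : Grp.mk H ⟶ Grp.mk H => f.hom.hom) α.hom_inv_id⟩
  obtain ⟨b₁, b₂⟩ : β.inv.hom.hom ≫ β.hom.hom.hom = 𝟙 G' ∧ β.hom.hom.hom ≫ β.inv.hom.hom = 𝟙 G :=
    ⟨congrArg (fun f : Grp.mk G' ⟶ Grp.mk G' => f.hom.hom) β.inv_hom_id,
      congrArg (fun f : Grp.mk G ⟶ Grp.mk G => f.hom.hom) β.hom_inv_id⟩
  refine ⟨fun X g₁ g₂ t => ?_, fun T φ hφ => ?_⟩
  · simp only [lift_whiskerRight_assoc]
    rw [MonObj.mul_comp g₁ g₂ α.hom.hom.hom, ← Category.assoc, h.1, MonObj.mul_comp]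
    simp only [Category.assoc]
  · let φ' : H' ⊗ T ⟶ G' := (α.inv.hom.hom ▷ T) ≫ φ ≫ β.hom.hom.hom
    have hφ' : AutFam.IsHomFamily H' G' φ' := fun X g₁ g₂ t => by
      simp only [φ', lift_whiskerRight_assoc]
      rw [MonObj.mul_comp g₁ g₂ α.inv.hom.hom, ← Category.assoc, hφ, MonObj.mul_comp]
      simp only [Category.assoc]
    have key : ∀ a : T ⟶ A, (H ◁ a) ≫ (α.hom.hom.hom ▷ A) ≫ υ ≫ β.inv.hom.hom = φ ↔ (H' ◁ a) ≫ υ = φ' := by
      intro a
      rw [← Category.assoc (H ◁ a), whisker_exchange]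
      constructor
      · intro e
        simp only [φ', ← e, Category.assoc, ← comp_whiskerRight_assoc, a₁, id_whiskerRight, Category.id_comp, b₁,
          Category.comp_id]
      · intro e
        simp only [Category.assoc]
        rw [reassoc_of% e]
        simp only [φ', Category.assoc, ← comp_whiskerRight_assoc, a₂, id_whiskerRight, Category.id_comp, b₂,
          Category.comp_id]
    obtain ⟨a, ha, hau⟩ := h.2 T φ' hφ'
    exact ⟨a, (key a).mpr ha, fun a' ha' => hau a' ((key a').mp ha')⟩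

/-- over a chart, homomorphisms form a constant scheme -/
theorem exists_representsHom_chart {V : Scheme.{u}} (g : V ⟶ S) {H G : Over S} [GrpObj H] [GrpObj G]
    {M M' : Type} [AddCommGroup M] [AddCommGroup M'] [AddGroup.FG M']
    (e : Grp.mk (Red.bc g H) ≅ Grp.mk (Red.DS V M)) (e' : Grp.mk (Red.bc g G) ≅ Grp.mk (Red.DS V M')) :
    ∃ υ : Red.bc g H ⊗ TwC.const V (HomIdx.{u} M M') ⟶ Red.bc g G,
      AutFam.RepresentsHom (Red.bc g H) (Red.bc g G) (TwC.const V (HomIdx.{u} M M')) υ := by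
  obtain ⟨υ, hυ, -⟩ := exists_representsHom_DS V M M'
  exact ⟨_, representsHom_of_iso e e' hυ⟩

theorem etale_const (V : Scheme.{u}) (I : Type u) : Etale (TwC.const V I).hom :=
  IsZariskiLocalAtSource.sigmaDesc (P := @Etale) fun _ => inferInstanceAs (Etale (𝟙 V))

theorem isSeparated_const (V : Scheme.{u}) (I : Type u) : IsSeparated (TwC.const V I).hom :=
  H12AlgSp.isSeparated_sigmaDesc (X := fun _ : I => V) (fun _ => 𝟙 V) fun _ => inferInstanceAs (IsSeparated (𝟙 V))

/-- schemes of homomorphisms which are étale-locally constant are twisted constant schemes -/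
theorem exists_representsHom_etale_const (H G : Over S) [GrpObj H] [GrpObj G]
    (h : ∀ s : S, ∃ (V : Scheme.{u}) (g : V ⟶ S) (I : Type u)
      (υ : Red.bc g H ⊗ TwC.const V I ⟶ Red.bc g G), Etale g ∧ s ∈ Set.range g.base ∧
        AutFam.RepresentsHom (Red.bc g H) (Red.bc g G) (TwC.const V I) υ) :
    ∃ (A : Over S) (υ : H ⊗ A ⟶ G), AutFam.RepresentsHom H G A υ ∧ TwC.IsTwConst TwC.Topology.etale A := by
  choose V g I υ hg hs hυ using h
  have : ∀ s, Flat (g s) := fun s => by have := hg s; infer_instance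
  have : ∀ s, LocallyOfFinitePresentation (g s) := fun s => by have := hg s; infer_instance
  obtain ⟨A, υ₀, h₁, h₂, -⟩ := exists_representsHom_of_cover (g := g) (A := fun s => TwC.const (V s) (I s))
    (fun s => ⟨s, hs s⟩) hυ (fun D hD => by
      have : Flat (Sigma.desc g) := IsZariskiLocalAtSource.sigmaDesc (P := @Flat) inferInstance
      have : LocallyOfFinitePresentation (Sigma.desc g) :=
        IsZariskiLocalAtSource.sigmaDesc (P := @LocallyOfFinitePresentation) inferInstance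
      have : Surjective (Sigma.desc g) := ⟨fun s => by
        obtain ⟨y, hy⟩ := hs s
        exact ⟨Sigma.ι V s y, by rw [← Scheme.Hom.comp_apply, Sigma.ι_desc]; exact hy⟩⟩
      have : Etale D.obj.hom := hD @Etale fun s => etale_const _ _
      have : IsSeparated D.obj.hom := hD @IsSeparated fun s => isSeparated_const _ _
      exact H13Desc.Eff.isEffective_lqf (Sigma.desc g) D)
  exact ⟨A, υ₀, h₁, fun s => ⟨V s, g s, hg s, hs s, I s, h₂ s⟩⟩

/-- restriction of a chart -/
noncomputable def chartComp {V W : Scheme.{u}} (k : W ⟶ V) (g : V ⟶ S) {H : Over S} [GrpObj H] {M : Type}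
    [AddCommGroup M] (e : Grp.mk (Red.bc g H) ≅ Grp.mk (Red.DS V M)) :
    Grp.mk (Red.bc (k ≫ g) H) ≅ Grp.mk (Red.DS W M) :=
  H21Diag.bcCompIso k g H ≪≫ H21Diag.bcMapIso k e ≪≫ H21Diag.bcDSIso k M

end Groth.Agent.H21Desc
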