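import Groth.Agent.H21Desc.HomBaseChange
import Groth.Agent.H21Desc.DiagHom
import Groth.Agent.H21Desc.HomTwConst
import Groth.Agent.H21Diag.TorusQuot
import Mathlib.CategoryTheory.Monoidal.Cartesian.Grp

/-!
The group of homomorphisms into a commutative group.
-/

open CategoryTheory MonoidalCategory CartesianMonoidalCategory MonObj GrpObj AlgebraicGeometry
open CategoryTheory.Limits Opposite

universe u

set_option backward.isDefEq.respectTransparency false
set_option maxHeartbeats 1000000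
set_option linter.style.haveILetI false

namespace Groth.Agent.H21Desc

variable {S : Scheme.{u}} {H G A : Over S} [GrpObj H] [GrpObj G]

/-- families into a commutative group form a group -/
noncomputable def homFamSubgroup (H G : Over S) [GrpObj H] [GrpObj G] (hG : ∀ {X : Over S} (a b : X ⟶ G), a * b = b * a)
    (T : Over S) : Subgroup (H ⊗ T ⟶ G) where
  carrier := {φ | AutFam.IsHomFamily H G φ}
  mul_mem' {φ ψ} hφ hψ X g₁ g₂ t := by
    letI : CommGroup (X ⟶ G) := { (inferInstance : Group (X ⟶ G)) with mul_comm := hG }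
    rw [MonObj.comp_mul, MonObj.comp_mul, MonObj.comp_mul, hφ, hψ]
    exact mul_mul_mul_comm _ _ _ _
  one_mem' X g₁ g₂ t := by rw [MonObj.comp_one, MonObj.comp_one, MonObj.comp_one, _root_.one_mul]
  inv_mem' {φ} hφ X g₁ g₂ t := by
    letI : CommGroup (X ⟶ G) := { (inferInstance : Group (X ⟶ G)) with mul_comm := hG }
    rw [GrpObj.comp_inv, GrpObj.comp_inv, GrpObj.comp_inv, hφ]
    exact _root_.mul_inv _ _

/-- the presheaf of groups of families -/
noncomputable def homFamGrp (H G : Over S) [GrpObj H] [GrpObj G] (hG : ∀ {X : Over S} (a b : X ⟶ G), a * b = b * a) :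
    (Over S)ᵒᵖ ⥤ GrpCat.{u} where
  obj T := GrpCat.of (homFamSubgroup H G hG T.unop)
  map a := GrpCat.ofHom (MonoidHom.mk' (fun φ => ⟨(H ◁ a.unop) ≫ φ.1, isHomFamily_whisker H G a.unop φ.2⟩)
    fun φ ψ => Subtype.ext (MonObj.comp_mul _ _ _))
  map_id T := by ext φ; simp
  map_comp a b := by ext φ; simp

/-- a scheme of homomorphisms into a commutative group is a group -/
theorem exists_grpObj (hG : ∀ {X : Over S} (a b : X ⟶ G), a * b = b * a) {υ : H ⊗ A ⟶ G}
    (hA : AutFam.RepresentsHom H G A υ) :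
    ∃ _ : GrpObj A, ∀ (X : Over S) (h : X ⟶ H) (a b : X ⟶ A),
      lift h (a * b) ≫ υ = (lift h a ≫ υ) * (lift h b ≫ υ) := by
  let F := homFamGrp H G hG
  have hbij : ∀ T : Over S, Function.Bijective fun a : T ⟶ A =>
      (⟨(H ◁ a) ≫ υ, isHomFamily_whisker H G a hA.1⟩ : homFamSubgroup H G hG T) := fun T => by
    refine ⟨fun a a' e => ?_, fun φ => ?_⟩
    · exact (hA.2 T _ (isHomFamily_whisker H G a hA.1)).unique rfl (congrArg Subtype.val e).symm
    · obtain ⟨a, ha, -⟩ := hA.2 T φ.1 φ.2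
      exact ⟨a, Subtype.ext ha⟩
  let r : (F ⋙ forget GrpCat).RepresentableBy A :=
    { homEquiv := fun {T} => Equiv.ofBijective _ (hbij T)
      homEquiv_comp := fun {T T'} k a => Subtype.ext (by
        change (H ◁ (k ≫ a)) ≫ υ = (H ◁ k) ≫ (H ◁ a) ≫ υ
        rw [MonoidalCategory.whiskerLeft_comp_assoc]) }
  letI : GrpObj A := GrpObj.ofRepresentableBy A F r
  refine ⟨inferInstance, fun X h a b => ?_⟩
  have hmu : (H ◁ μ[A]) ≫ υ = ((H ◁ fst A A) ≫ υ) * ((H ◁ snd A A) ≫ υ) := by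
    have h1 := r.homEquiv.apply_symm_apply
      ((r.homEquiv (fst A A) : homFamSubgroup H G hG (A ⊗ A)) * r.homEquiv (snd A A))
    exact congrArg Subtype.val h1
  have hab : (H ◁ (a * b)) ≫ υ = ((H ◁ a) ≫ υ) * ((H ◁ b) ≫ υ) := by
    rw [Hom.mul_def, MonoidalCategory.whiskerLeft_comp_assoc, hmu, MonObj.comp_mul,
      ← MonoidalCategory.whiskerLeft_comp_assoc, ← MonoidalCategory.whiskerLeft_comp_assoc, lift_fst, lift_snd]
  have key : ∀ c : X ⟶ A, lift h c ≫ υ = lift h (𝟙 X) ≫ (H ◁ c) ≫ υ := fun c => by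
    rw [lift_whiskerLeft_assoc, Category.id_comp]
  rw [key, key, key, hab, MonObj.comp_mul]

/-- morphisms out of `D(M)` are determined by their values at points -/
theorem hom_ext_gpt {M : Type} [AddCommGroup M] {X : Over S} {f g : Red.DS S M ⟶ X}
    (h : ∀ (D : Type u) (_ : CommRing D) (y : Spec (CommRingCat.of D) ⟶ S) (χ : Multiplicative M →* D),
      H21Diag.gpt (H21Diag.idChart S M) y χ ≫ f = H21Diag.gpt (H21Diag.idChart S M) y χ ≫ g) : f = g := by
  refine Over.OverMorphism.ext (Scheme.Cover.hom_ext (Red.DS S M).left.affineCover _ _ fun j => ?_)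
  let X' := (Red.DS S M).left.affineCover.X j
  let k := X'.isoSpec.inv ≫ (Red.DS S M).left.affineCover.f j
  rw [← cancel_epi X'.isoSpec.inv, ← Category.assoc, ← Category.assoc]
  change k ≫ f.left = k ≫ g.left
  let q : Over.mk ((k ≫ (Red.DS S M).hom) ≫ 𝟙 S) ⟶ Red.DS S M := Over.homMk k (Category.comp_id _).symm
  obtain ⟨χ, hχ⟩ := H21Diag.gpt_surjective (H21Diag.idChart S M) _ q
  have := h _ inferInstance (k ≫ (Red.DS S M).hom) χ
  rw [hχ] at this
  exact congrArg CommaMorphism.left this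

theorem DSmap_add {M M' : Type} [AddCommGroup M] [AddCommGroup M'] (φ ψ : M' →+ M) :
    Red.DSmap S (φ + ψ) = Red.DSmap S φ * Red.DSmap S ψ := by
  refine hom_ext_gpt fun D _ y χ => ?_
  rw [MonObj.comp_mul, gpt_comp_DSmap, gpt_comp_DSmap, gpt_comp_DSmap, ← H21Diag.gpt_mul]
  congr 1
  exact MonoidHom.ext fun m => map_mul χ _ _

theorem dsConst_add {M M' : Type} [AddCommGroup M] [AddCommGroup M'] (φ ψ : M' →+ M) (T : Over S) :
    (dsConst S M M' (φ + ψ) T).1 = (dsConst S M M' φ T).1 * (dsConst S M M' ψ T).1 :=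
  (congrArg (fst (Red.DS S M) T ≫ ·) (DSmap_add φ ψ)).trans (MonObj.comp_mul _ _ _)

/-- over a chart, a scheme of homomorphisms with its pointwise group law is a constant group -/
theorem exists_isConstGrp {V : Scheme.{u}} (g : V ⟶ S) [GrpObj A] {υ : H ⊗ A ⟶ G}
    (hA : AutFam.RepresentsHom H G A υ)
    (hm : ∀ (X : Over S) (h : X ⟶ H) (a b : X ⟶ A), lift h (a * b) ≫ υ = (lift h a ≫ υ) * (lift h b ≫ υ))
    {M M' : Type} [AddCommGroup M] [AddCommGroup M'] [AddGroup.FG M']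
    (e : Grp.mk (Red.bc g H) ≅ Grp.mk (Red.DS V M)) (e' : Grp.mk (Red.bc g G) ≅ Grp.mk (Red.DS V M')) :
    ∃ (I : Type u) (_ : Group I) (ε : Red.bc g A ≅ TwC.const V I), TwC.IsConstGrp I (Red.bc g A) ε := by
  let I := Multiplicative (HomIdx.{u} M M')
  obtain ⟨υc, hυc, hcopy⟩ := exists_representsHom_DS V M M'
  let υ' := ((e.hom.hom.hom) ▷ TwC.const V (HomIdx.{u} M M')) ≫ υc ≫ e'.inv.hom.hom
  have h1 : AutFam.RepresentsHom (Red.bc g H) (Red.bc g G) (TwC.const V (HomIdx.{u} M M')) υ' :=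
    representsHom_of_iso e e' hυc
  have h2 := representsHom_bc (p := g) hA
  obtain ⟨a, ha, -⟩ := h1.2 _ _ h2.1
  obtain ⟨b, hb, -⟩ := h2.2 _ _ h1.1
  let ε : Red.bc g A ≅ TwC.const V (HomIdx.{u} M M') :=
    { hom := a, inv := b
      hom_inv_id := (h2.2 _ _ h2.1).unique (by rw [MonoidalCategory.whiskerLeft_comp_assoc, hb, ha])
        (by rw [MonoidalCategory.whiskerLeft_id, Category.id_comp])
      inv_hom_id := (h1.2 _ _ h1.1).unique (by rw [MonoidalCategory.whiskerLeft_comp_assoc, ha, hb])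
        (by rw [MonoidalCategory.whiskerLeft_id, Category.id_comp]) }
  refine ⟨I, inferInstance, ε, fun m n => ?_⟩
  have hpt : ∀ i : HomIdx.{u} M M', TwC.pt V (HomIdx.{u} M M') i = copy V (HomIdx.{u} M M') i (𝟙_ (Over V)) :=
    fun i => Over.OverMorphism.ext (Category.id_comp _).symm
  have hfam : ∀ i : HomIdx.{u} M M', (Red.bc g H ◁ (TwC.pt V (HomIdx.{u} M M') i ≫ b)) ≫ bcFam g υ =
      (e.hom.hom.hom ▷ 𝟙_ (Over V)) ≫ (dsConst V M M' i.down (𝟙_ (Over V))).1 ≫ e'.inv.hom.hom := fun i => by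
    rw [MonoidalCategory.whiskerLeft_comp_assoc, hb, hpt, ← hcopy]
    simp only [υ', Category.assoc]
    rw [whisker_exchange_assoc]
  refine (h2.2 _ _ (isHomFamily_whisker _ _ _ h2.1)).unique ?_ rfl
  change (Red.bc g H ◁ ((TwC.pt V (HomIdx.{u} M M') m ≫ b) * (TwC.pt V (HomIdx.{u} M M') n ≫ b))) ≫ bcFam g υ =
    (Red.bc g H ◁ (TwC.pt V (HomIdx.{u} M M') (Multiplicative.ofAdd (Multiplicative.toAdd m + Multiplicative.toAdd n))
      ≫ b)) ≫ bcFam g υ
  rw [whiskerLeft_eq_lift, MonObj.comp_mul, bcFam_mul hm, ← whiskerLeft_eq_lift, ← whiskerLeft_eq_lift]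
  refine ((congrArg₂ (· * ·) (hfam m) (hfam n)).trans ?_).trans (hfam _).symm
  change _ = _ ≫ (dsConst V M M' ((Multiplicative.toAdd m).down + (Multiplicative.toAdd n).down) _).1 ≫ _
  rw [dsConst_add, MonObj.mul_comp, MonObj.comp_mul]
  rfl

end Groth.Agent.H21Desc
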