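import Groth.Agent.H21Diag.BaseChange
import Groth.Prelude.Def_AutFam

/-!
A homomorphism between base changes along `p : T ⟶ S` is a family of homomorphisms parametrised by `T`.
-/

open CategoryTheory MonoidalCategory CartesianMonoidalCategory MonObj GrpObj AlgebraicGeometry
open CategoryTheory.Limits

universe u

namespace Groth.Agent.H21Desc

variable {S S' : Scheme.{u}} {p : S' ⟶ S}

/-- a scheme over `T` seen over `S'` -/
noncomputable abbrev up {W : Over S} (w : W ⟶ Over.mk p) : Over S' := Over.mk w.left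

/-- comparison map -/
noncomputable def jmap {W : Over S} (w : W ⟶ Over.mk p) : W ⟶ (Over.map p).obj (up w) :=
  Over.homMk (𝟙 W.left) (by simpa using Over.w w)

/-- from points of the base change to points -/
noncomputable def fwd {W : Over S} (w : W ⟶ Over.mk p) {Y : Over S} (g : up w ⟶ Red.bc p Y) : W ⟶ Y :=
  jmap w ≫ ((Over.mapPullbackAdj p).homEquiv (up w) Y).symm g

/-- from points to points of the base change -/
noncomputable def bwd {W : Over S} (w : W ⟶ Over.mk p) {Y : Over S} (g : W ⟶ Y) : up w ⟶ Red.bc p Y :=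
  Over.homMk (pullback.lift g.left w.left ((Over.w g).trans (Over.w w).symm)) (pullback.lift_snd _ _ _)

theorem fwd_left {W : Over S} (w : W ⟶ Over.mk p) {Y : Over S} (g : up w ⟶ Red.bc p Y) :
    (fwd w g).left = g.left ≫ pullback.fst Y.hom p := by
  simp [fwd, jmap, Over.mapPullbackAdj]

theorem fwd_bwd {W : Over S} (w : W ⟶ Over.mk p) {Y : Over S} (g : W ⟶ Y) : fwd w (bwd w g) = g :=
  Over.OverMorphism.ext (by rw [fwd_left]; exact pullback.lift_fst _ _ _)

theorem bwd_fwd {W : Over S} (w : W ⟶ Over.mk p) {Y : Over S} (g : up w ⟶ Red.bc p Y) :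
    bwd w (fwd w g) = g := by
  refine Over.OverMorphism.ext (pullback.hom_ext ?_ ?_)
  · exact (pullback.lift_fst _ _ _).trans (fwd_left w g)
  · exact (pullback.lift_snd _ _ _).trans (Over.w g).symm

theorem fwd_mul {W : Over S} (w : W ⟶ Over.mk p) {Y : Over S} [GrpObj Y] (g h : up w ⟶ Red.bc p Y) :
    fwd w (g * h) = fwd w g * fwd w h := by
  simp only [fwd, ← MonObj.comp_mul]
  congr 1
  apply ((Over.mapPullbackAdj p).homEquiv (up w) Y).injective
  rw [Equiv.apply_symm_apply]
  simp only [Adjunction.homEquiv_unit, Functor.map_mul, MonObj.comp_mul]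
  simp only [← Adjunction.homEquiv_unit, Equiv.apply_symm_apply]

theorem bwd_mul {W : Over S} (w : W ⟶ Over.mk p) {Y : Over S} [GrpObj Y] (g h : W ⟶ Y) :
    bwd w (g * h) = bwd w g * bwd w h := by
  conv_lhs => rw [← fwd_bwd w g, ← fwd_bwd w h, ← fwd_mul, bwd_fwd]

variable {X Y : Over S} [GrpObj X] [GrpObj Y]

/-- the family of a morphism between base changes -/
noncomputable def fam (φ : Red.bc p X ⟶ Red.bc p Y) : X ⊗ Over.mk p ⟶ Y :=
  fwd (snd X (Over.mk p)) (bwd (snd X (Over.mk p)) (fst X (Over.mk p)) ≫ φ)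

theorem lift_fam (φ : Red.bc p X ⟶ Red.bc p Y) {W : Over S} (g : W ⟶ X) (w : W ⟶ Over.mk p) :
    lift g w ≫ fam φ = fwd w (bwd w g ≫ φ) := by
  refine Over.OverMorphism.ext ?_
  simp only [fam, Over.comp_left, fwd_left, bwd, Over.homMk_left]
  simp only [← Category.assoc]
  congr 2
  refine pullback.hom_ext ?_ ?_
  · rw [Category.assoc, pullback.lift_fst, pullback.lift_fst, ← Over.comp_left, lift_fst]
  · rw [Category.assoc, pullback.lift_snd, pullback.lift_snd, ← Over.comp_left, lift_snd]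

theorem isIsoFamily_fam (e : Grp.mk (Red.bc p X) ≅ Grp.mk (Red.bc p Y)) :
    AutFam.IsIsoFamily X Y (fam e.hom.hom.hom) := by
  refine ⟨fun W g₁ g₂ w => ?_, fam e.inv.hom.hom, fun W g w => ?_, fun W g w => ?_⟩
  · rw [lift_fam, lift_fam, lift_fam, bwd_mul, MonObj.mul_comp, fwd_mul]
  · rw [lift_fam, lift_fam, bwd_fwd, Category.assoc]
    rw [show e.hom.hom.hom ≫ e.inv.hom.hom = 𝟙 (Red.bc p X) from
      congrArg (fun f : Grp.mk (Red.bc p X) ⟶ Grp.mk (Red.bc p X) => f.hom.hom) e.hom_inv_id,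
      Category.comp_id, fwd_bwd]
  · rw [lift_fam, lift_fam, bwd_fwd, Category.assoc]
    rw [show e.inv.hom.hom ≫ e.hom.hom.hom = 𝟙 (Red.bc p Y) from
      congrArg (fun f : Grp.mk (Red.bc p Y) ⟶ Grp.mk (Red.bc p Y) => f.hom.hom) e.inv_hom_id,
      Category.comp_id, fwd_bwd]

end Groth.Agent.H21Desc
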