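import Groth.Agent.H21Desc.FamChange

/-!
Schemes of homomorphisms and base change.
-/

open CategoryTheory MonoidalCategory CartesianMonoidalCategory MonObj GrpObj AlgebraicGeometry
open CategoryTheory.Limits

universe u

set_option backward.isDefEq.respectTransparency false

namespace Groth.Agent.H21Desc

variable {S S' : Scheme.{u}} {H G A : Over S} [GrpObj H] [GrpObj G]

/-- the base change of a family -/
noncomputable def bcFam (p : S' ⟶ S) (υ : H ⊗ A ⟶ G) : Red.bc p H ⊗ Red.bc p A ⟶ Red.bc p G :=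
  (Over.mapPullbackAdj p).homEquiv _ _
    (lift (tr (fst (Red.bc p H) (Red.bc p A))) (tr (snd (Red.bc p H) (Red.bc p A))) ≫ υ)

variable {p : S' ⟶ S}

omit [GrpObj H] [GrpObj G] in
theorem tr_lift_bcFam (υ : H ⊗ A ⟶ G) {V : Over S'} (h : V ⟶ Red.bc p H) (a : V ⟶ Red.bc p A) :
    tr (lift h a ≫ bcFam p υ) = lift (tr h) (tr a) ≫ υ := by
  rw [tr_comp, bcFam, tr_homEquiv, comp_lift_assoc, ← tr_comp, ← tr_comp, lift_fst, lift_snd]

/-- the base change of a scheme of homomorphisms is the scheme of homomorphisms of the base changes -/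
theorem representsHom_bc {υ : H ⊗ A ⟶ G} (h : AutFam.RepresentsHom H G A υ) :
    AutFam.RepresentsHom (Red.bc p H) (Red.bc p G) (Red.bc p A) (bcFam p υ) := by
  refine ⟨fun V g₁ g₂ a => ?_, fun T φ hφ => ?_⟩
  · apply tr_injective
    rw [tr_mul, tr_lift_bcFam, tr_lift_bcFam, tr_lift_bcFam, tr_mul]
    exact h.1 _ _ _ _
  obtain ⟨b, hb, hbu⟩ := h.2 _ (famDown φ) (isHomFamily_famDown hφ)
  have hb' : ∀ a : T ⟶ Red.bc p A, (H ◁ tr a) ≫ υ = famDown φ ↔ (Red.bc p H ◁ a) ≫ bcFam p υ = φ := by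
    intro a
    constructor
    · intro e
      apply tr_injective
      rw [whiskerLeft_eq_lift, tr_lift_bcFam, tr_comp]
      conv_rhs => rw [← Category.id_comp φ, ← lift_fst_snd, ← lift_famDown, ← e, lift_whiskerLeft_assoc]
    · intro e
      rw [← Category.id_comp (famDown φ), ← lift_fst_snd, lift_famDown' φ _ _ _ rfl, ← e, lift_whiskerLeft_assoc,
        fwd_eq, tr_lift_bcFam, comp_lift_assoc, tr_comp, ← fwd_eq, fwd_bwd, whiskerLeft_eq_lift]
      congr 2
  refine ⟨(Over.mapPullbackAdj p).homEquiv _ _ b, ?_, fun a ha => ?_⟩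
  · exact (hb' _).mp (by rw [tr_homEquiv]; exact hb)
  · apply tr_injective
    rw [tr_homEquiv]
    exact hbu _ ((hb' a).mpr ha)

theorem bcFam_mul {υ : H ⊗ A ⟶ G} [GrpObj A]
    (hm : ∀ (X : Over S) (h : X ⟶ H) (a b : X ⟶ A), lift h (a * b) ≫ υ = (lift h a ≫ υ) * (lift h b ≫ υ))
    {V : Over S'} (h : V ⟶ Red.bc p H) (a b : V ⟶ Red.bc p A) :
    lift h (a * b) ≫ bcFam p υ = (lift h a ≫ bcFam p υ) * (lift h b ≫ bcFam p υ) := by
  apply tr_injective
  rw [tr_mul, tr_lift_bcFam, tr_lift_bcFam, tr_lift_bcFam, tr_mul, hm]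

end Groth.Agent.H21Desc
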