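import Groth.Agent.H21Desc.RepDescent
import Groth.Agent.H21Desc.HomSheaf
import Groth.Agent.H21Desc.FamChange
import Mathlib.CategoryTheory.MorphismProperty.Descent

/-!
Schemes of homomorphisms descend along fpqc coverings.
-/

open CategoryTheory MonoidalCategory CartesianMonoidalCategory MonObj GrpObj AlgebraicGeometry
open CategoryTheory.Limits Opposite Desc Groth.Agent.H15Magnet.AffineRep

universe u

set_option backward.isDefEq.respectTransparency false
set_option backward.isDefEq.respectTransparency.types false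

namespace Groth.Agent.H21Desc

variable {S U : Scheme.{u}} {f : U ⟶ S} {H G : Over S} [GrpObj H] [GrpObj G]

/-- the structure map of `S`-schemes -/
noncomputable def toBase (H G : Over S) [GrpObj H] [GrpObj G] : homFam H G ⟶ yoneda.obj (Over.mk (𝟙 S)) where
  app T := ↾fun _ => Over.homMk T.unop.hom (Category.comp_id _)
  naturality {T T'} a := by
    ext φ
    exact Over.OverMorphism.ext (Over.w a.unop).symm

/-- the projection to the base -/
noncomputable def pMap (f : U ⟶ S) : Over.mk f ⟶ Over.mk (𝟙 S) := Over.homMk f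

theorem isRep_of_representsHom {A : Over U} {υ : Red.bc f H ⊗ A ⟶ Red.bc f G}
    (hA : AutFam.RepresentsHom (Red.bc f H) (Red.bc f G) A υ) :
    IsRep (toBase H G) (pMap f) (strMap f A)
      (⟨famDown υ, isHomFamily_famDown hA.1⟩ : (homFam H G).obj (op ((Over.map f).obj A))) := by
  refine ⟨Over.OverMorphism.ext rfl, fun T φ x _ => ?_⟩
  obtain ⟨s, hs, hsu⟩ := hA.2 (up x) (trFam x φ.1) (isHomFamily_trFam x φ.2)
  let z : T ⟶ (Over.map f).obj A := Over.homMk s.left (by
    change s.left ≫ A.hom ≫ f = T.hom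
    rw [reassoc_of% (Over.w s)]
    exact Over.w x)
  have hz : z ≫ strMap f A = x := Over.OverMorphism.ext (Over.w s)
  refine ⟨z, ⟨hz, Subtype.ext ((famDown_iff υ φ.1 z x hz).mpr ?_)⟩, fun z' ⟨hz', hφ'⟩ => ?_⟩
  · rw [show pointUp x z hz = s from Over.OverMorphism.ext rfl]
    exact hs
  · have := hsu _ ((famDown_iff υ φ.1 z' x hz').mp (congrArg Subtype.val hφ'))
    exact Over.OverMorphism.ext (congrArg (fun m : up x ⟶ A => m.left) this)

/-- Schemes of homomorphisms descend along fpqc coverings when the descent datum is effective. -/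
theorem exists_representsHom_of_isRep (f : U ⟶ S) [H13Desc.Eff.IsCover f]
    {A : Over U} {ξ : (homFam H G).obj (op ((Over.map f).obj A))}
    (h : IsRep (toBase H G) (pMap f) (strMap f A) ξ)
    (hD : ∀ D : SchDD f, D.obj = Over.mk A.hom → ∃ Z : Over S, Nonempty ((toDD f).obj Z ≅ D)) :
    ∃ (A₀ : Over S) (υ₀ : H ⊗ A₀ ⟶ G), AutFam.RepresentsHom H G A₀ υ₀ ∧ Nonempty (Red.bc f A₀ ≅ A) ∧
      ∀ (P : MorphismProperty Scheme.{u}) [P.IsStableUnderBaseChange] [IsZariskiLocalAtTarget P]
        [P.DescendsAlong (@Surjective ⊓ @Flat ⊓ @QuasiCompact)], P A.hom → P A₀.hom := by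
  have : H13Desc.Eff.IsCover (pMap f).left := inferInstanceAs (H13Desc.Eff.IsCover f)
  obtain ⟨Z, j, e, hP, ⟨i⟩, -⟩ := exists_rep_of_effective (homFam_isSheaf_fpqc H G) h (hD h.datum rfl)
  have hj : j.left = Z.hom := (Category.comp_id _).symm.trans (Over.w j)
  refine ⟨Z, (e.homEquiv (𝟙 Z)).1, ⟨(e.homEquiv (𝟙 Z)).2, fun T φ hφ => ?_⟩, ⟨?_⟩, ?_⟩
  · refine ⟨e.homEquiv.symm ⟨φ, hφ⟩, ?_, fun a ha => ?_⟩
    · change ((homFam H G).map (e.homEquiv.symm ⟨φ, hφ⟩).op (e.homEquiv (𝟙 Z))).1 = φ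
      rw [← e.homEquiv_comp, Category.comp_id, Equiv.apply_symm_apply]
    · rw [Equiv.eq_symm_apply]
      refine Subtype.ext (Eq.trans ?_ ha)
      have h1 : e.homEquiv (a ≫ 𝟙 Z) = (homFam H G).map a.op (e.homEquiv (𝟙 Z)) := e.homEquiv_comp a (𝟙 Z)
      rw [Category.comp_id] at h1
      exact congrArg Subtype.val h1
  · refine (eqToIso ?_ : Red.bc f Z ≅ (Over.pullback (pMap f).left).obj (Over.mk j.left)) ≪≫ i
    exact congrArg (fun m => (Over.pullback f).obj (Over.mk m)) hj.symm
  · intro P _ _ _ hPA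
    have := hP P hPA
    rwa [hj] at this

end Groth.Agent.H21Desc
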