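import Groth.Agent.H15Magnet.AffineRep
import Groth.Agent.H13Desc.Eff.Lqf
import Groth.Agent.H13Desc.Eff.Glue
import Groth.Agent.H13Desc.Eff.Affine
import Groth.Agent.H13Desc.Eff.Refine
import Groth.Agent.H13Desc.Fpqc
import Groth.Agent.H18Descent.Basic
import Groth.Agent.S1133

/-!
# Descent of representability along fppf coverings

Adapted from `Groth.Agent.H15Magnet.AffineRep.exists_rep` (helper15), whose affineness hypothesis is replaced
by effectiveness of the descent datum.
-/

set_option autoImplicit false
set_option backward.isDefEq.respectTransparency false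
set_option backward.isDefEq.respectTransparency.types false
set_option linter.style.haveILetI false
set_option linter.deprecated false

universe u

noncomputable section

open CategoryTheory CategoryTheory.Limits AlgebraicGeometry Opposite Desc TopologicalSpace

namespace Groth.Agent.H21Desc

open Groth.Agent.H15Magnet.AffineRep

/-- The sheaf condition for one covering morphism. -/
theorem isSheafFor_singleton_cover {S : Scheme.{u}} {G : (Over S)ᵒᵖ ⥤ Type u}
    (hG : Presheaf.IsSheaf (Scheme.fpqcTopology.over S) G) {A B : Over S} (f : A ⟶ B)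
    [H13Desc.Eff.IsCover f.left] : (Presieve.singleton f).IsSheafFor G := by
  rw [isSheaf_iff_isSheaf_of_type] at hG
  rw [Presieve.isSheafFor_iff_generate]
  refine hG _ ?_
  rw [GrothendieckTopology.mem_over_iff]
  refine GrothendieckTopology.superset_covering _ ?_
    (Precoverage.generate_mem_toGrothendieck (H13Desc.Eff.IsCover.mem (p := f.left)))
  rintro Y g ⟨Z, h, _, ⟨⟩, rfl⟩
  rw [Sieve.overEquiv_iff]
  exact ⟨A, Over.homMk h (by simp), f, ⟨⟩, Over.OverMorphism.ext rfl⟩

variable {S : Scheme.{u}} {G : (Over S)ᵒᵖ ⥤ Type u} {W W' Z' : Over S} {q : G ⟶ yoneda.obj W} {p : W' ⟶ W}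
  {π : Z' ⟶ W'} {ξ : G.obj (op Z')}

/-- Representability descends along fpqc coverings when the descent datum is effective; the structure morphism
keeps properties which descend. -/
theorem exists_rep_of_effective (hG : Presheaf.IsSheaf (Scheme.fpqcTopology.over S) G) (h : IsRep q p π ξ)
    [H13Desc.Eff.IsCover p.left]
    (hD : ∃ U : Over W.left, Nonempty ((toDD p.left).obj U ≅ h.datum)) :
    ∃ (Z : Over S) (j : Z ⟶ W) (e : G.RepresentableBy Z),
      (∀ (P : MorphismProperty Scheme.{u}) [P.IsStableUnderBaseChange] [IsZariskiLocalAtTarget P]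
        [P.DescendsAlong (@Surjective ⊓ @Flat ⊓ @QuasiCompact)], P π.left → P j.left) ∧
      Nonempty ((Over.pullback p.left).obj (Over.mk j.left) ≅ Over.mk π.left) ∧
      ∀ (T : Over S) (z : T ⟶ Z), q.app (op T) (e.homEquiv z) = z ≫ j := by
  obtain ⟨U, ⟨e⟩⟩ := hD
  let P := pullback p.left U.hom
  let E : P ⟶ Z'.left := e.hom.hom.left
  let E' : Z'.left ⟶ P := e.inv.hom.left
  have hE : E ≫ π.left = pullback.fst p.left U.hom := Over.w e.hom.hom
  have hE' : E' ≫ pullback.fst p.left U.hom = π.left := Over.w e.inv.hom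
  have hEE' : E ≫ E' = 𝟙 _ := by
    show e.hom.hom.left ≫ e.inv.hom.left = _
    rw [← Over.comp_left, ← SchDD.comp_hom, e.hom_inv_id]; rfl
  have hUP : ∀ (P : MorphismProperty Scheme.{u}) [P.IsStableUnderBaseChange] [IsZariskiLocalAtTarget P]
      [P.DescendsAlong (@Surjective ⊓ @Flat ⊓ @QuasiCompact)], P π.left → P U.hom := fun P _ _ _ hP => by
    refine H13Desc.Eff.IsCover.descend p.left P (IsPullback.of_hasPullback p.left U.hom) ?_
    rw [← hE]
    have : IsIso E := inferInstanceAs (IsIso e.hom.hom.left)
    exact (MorphismProperty.cancel_left_of_respectsIso P E π.left).mpr hP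
  let Z : Over S := Over.mk (U.hom ≫ W.hom)
  let j : Z ⟶ W := Over.homMk U.hom
  let Po : Over S := Over.mk (pullback.snd p.left U.hom ≫ Z.hom)
  let s : Po ⟶ Z := Over.homMk (pullback.snd p.left U.hom)
  let fw : Po ⟶ W' := Over.homMk (pullback.fst p.left U.hom) (by
    change pullback.fst p.left U.hom ≫ W'.hom = pullback.snd p.left U.hom ≫ U.hom ≫ W.hom
    rw [← Over.w p, reassoc_of% pullback.condition (f := p.left) (g := U.hom)])
  let Eo : Po ⟶ Z' := Over.homMk E (by
    change E ≫ Z'.hom = Po.hom
    rw [← Over.w π, reassoc_of% hE]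
    exact Over.w fw)
  have hEo : Eo ≫ π = fw := Over.OverMorphism.ext hE
  have hsq : fw ≫ p = s ≫ j := Over.OverMorphism.ext pullback.condition
  let η : G.obj (op Po) := G.map Eo.op ξ
  haveI : H13Desc.Eff.IsCover s.left := inferInstanceAs (H13Desc.Eff.IsCover (pullback.snd p.left U.hom))
  -- canonical transport corresponds to the transport
  have comm : ∀ {T : Scheme.{u}} (v v' : T ⟶ P) (hv : v ≫ pullback.snd _ _ = v' ≫ pullback.snd _ _)
      (hx : (v ≫ pullback.fst _ _) ≫ p.left = (v' ≫ pullback.fst _ _) ≫ p.left),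
      v' ≫ E = (h.trans' _ _ hx ⟨v ≫ E, by rw [Category.assoc]; exact congrArg (v ≫ ·) hE⟩).1 := by
    intro T v v' hv hx
    have h1 := e.hom.comm _ _ hx ⟨v, rfl⟩ ⟨v ≫ E, by rw [Category.assoc]; exact congrArg (v ≫ ·) hE⟩ rfl
    have h2 : ((((toDD p.left).obj U).φ _ _ hx) ⟨v, rfl⟩).1 = v' :=
      pullback.hom_ext (pullback.lift_fst _ _ _) ((pullback.lift_snd _ _ _).trans hv)
    rw [h2] at h1
    exact h1.symm
  have hcompat : ∀ {T : Over S} (v v' : T ⟶ Po), v ≫ s = v' ≫ s → G.map v.op η = G.map v'.op η := by
    intro T v v' hv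
    have hl : v.left ≫ pullback.snd _ _ = v'.left ≫ pullback.snd _ _ := congrArg CommaMorphism.left hv
    have hx : (v.left ≫ pullback.fst _ _) ≫ p.left = (v'.left ≫ pullback.fst _ _) ≫ p.left := by
      rw [Category.assoc, Category.assoc, pullback.condition, reassoc_of% hl]
    obtain ⟨b, hb, hb1, hb2⟩ := h.liftHom_trans' _ _ hx
      ⟨v.left ≫ E, by rw [Category.assoc]; exact congrArg (v.left ≫ ·) hE⟩
    let idh : T ⟶ Over.mk ((v.left ≫ pullback.fst p.left U.hom) ≫ W'.hom) := Over.homMk (𝟙 _) (by
      change 𝟙 _ ≫ (v.left ≫ pullback.fst p.left U.hom) ≫ W'.hom = T.hom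
      rw [Category.id_comp, Category.assoc]
      exact (congrArg (v.left ≫ ·) (Over.w fw)).trans (Over.w v))
    have e1 : v ≫ Eo = idh ≫ liftHom π (⟨v.left ≫ E, by
        rw [Category.assoc]; exact congrArg (v.left ≫ ·) hE⟩ : Lifts (Over.mk π.left) (v.left ≫ pullback.fst p.left U.hom)) :=
      Over.OverMorphism.ext (Category.id_comp _).symm
    have e2 : v' ≫ Eo = idh ≫ b := Over.OverMorphism.ext (by
      refine ((comm v.left v'.left hl hx).trans hb.symm).trans (Category.id_comp _).symm)
    simp only [η, ← FunctorToTypes.map_comp_apply, ← op_comp, e1, e2]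
    rw [op_comp, op_comp, FunctorToTypes.map_comp_apply, FunctorToTypes.map_comp_apply, hb2]
  obtain ⟨g₀, hg₀, -⟩ := (Presieve.isSheafFor_singleton.1 (isSheafFor_singleton_cover hG s)) η
    (fun {T} v v' hv => hcompat v v' hv)
  have hqg : q.app (op Z) g₀ = j := by
    have h1 := ConcreteCategory.congr_hom (q.naturality s.op) g₀
    simp only [types_comp_apply] at h1
    rw [hg₀] at h1
    have h2 : s ≫ q.app (op Z) g₀ = s ≫ j := by
      refine h1.symm.trans ((h.q_map Eo).trans ?_)
      rw [← Category.assoc, hEo, hsq]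
    apply Over.OverMorphism.ext
    rw [← cancel_epi (pullback.snd p.left U.hom)]
    exact congrArg CommaMorphism.left h2
  have hq : ∀ {T : Over S} (z : T ⟶ Z), q.app (op T) (G.map z.op g₀) = z ≫ j := fun z => by
    have h1 := ConcreteCategory.congr_hom (q.naturality z.op) g₀
    simp only [types_comp_apply] at h1
    exact h1.trans (congrArg (z ≫ ·) hqg)
  have hb : ∀ T : Over S, Function.Bijective (fun z : T ⟶ Z => G.map z.op g₀) := by
    intro T
    refine ⟨fun z z' hz => ?_, fun g => ?_⟩
    · have hzj : z ≫ j = z' ≫ j := (hq z).symm.trans ((congrArg (q.app (op T)) hz).trans (hq z'))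
      let K := pullback p.left (z ≫ j).left
      let Ko : Over S := Over.mk (pullback.snd p.left (z ≫ j).left ≫ T.hom)
      let k : Ko ⟶ T := Over.homMk (pullback.snd p.left (z ≫ j).left)
      let x : Ko ⟶ W' := Over.homMk (pullback.fst p.left (z ≫ j).left) (by
        change _ ≫ W'.hom = pullback.snd p.left (z ≫ j).left ≫ T.hom
        rw [← Over.w p, reassoc_of% pullback.condition (f := p.left) (g := (z ≫ j).left), Over.w (z ≫ j)])
      have hxk : x ≫ p = k ≫ z ≫ j := Over.OverMorphism.ext pullback.condition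
      let mk' : ∀ w : T ⟶ Z, w ≫ j = z ≫ j → (Ko ⟶ Po) := fun w hw =>
        Over.homMk (pullback.lift x.left (k ≫ w).left (by
          rw [← hw] at hxk
          exact congrArg CommaMorphism.left (hxk.trans (Category.assoc _ _ _).symm))) (by
          change pullback.lift _ _ _ ≫ pullback.snd p.left U.hom ≫ Z.hom = Ko.hom
          rw [pullback.lift_snd_assoc]
          exact Over.w (k ≫ w))
      have hs : ∀ w hw, mk' w hw ≫ s = k ≫ w := fun w hw => Over.OverMorphism.ext (pullback.lift_snd _ _ _)
      have hfw : ∀ w hw, mk' w hw ≫ fw = x := fun w hw => Over.OverMorphism.ext (pullback.lift_fst _ _ _)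
      have e1 : mk' z rfl ≫ Eo = mk' z' hzj.symm ≫ Eo := by
        refine h.ext ?_ ?_
        · rw [Category.assoc, Category.assoc, hEo, hfw z rfl, hfw z' hzj.symm]
        · rw [op_comp, op_comp, FunctorToTypes.map_comp_apply, FunctorToTypes.map_comp_apply]
          change G.map (mk' z rfl).op η = G.map (mk' z' hzj.symm).op η
          rw [← hg₀, ← FunctorToTypes.map_comp_apply, ← FunctorToTypes.map_comp_apply, ← op_comp, ← op_comp,
            hs z rfl, hs z' hzj.symm, op_comp, op_comp, FunctorToTypes.map_comp_apply, FunctorToTypes.map_comp_apply]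
          exact congrArg (G.map k.op) hz
      have e2 : (mk' z rfl).left = (mk' z' hzj.symm).left := by
        have e3 : (mk' z rfl).left ≫ E = (mk' z' hzj.symm).left ≫ E := congrArg CommaMorphism.left e1
        have e4 : ((mk' z rfl).left ≫ E) ≫ E' = ((mk' z' hzj.symm).left ≫ E) ≫ E' := congrArg (· ≫ E') e3
        rw [Category.assoc, Category.assoc, hEE'] at e4
        exact (Category.comp_id _).symm.trans (e4.trans (Category.comp_id _))
      apply Over.OverMorphism.ext
      rw [← cancel_epi (pullback.snd p.left (z ≫ j).left)]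
      have e3 := congrArg (· ≫ pullback.snd p.left U.hom) e2
      exact ((pullback.lift_snd _ _ _).symm.trans e3).trans (pullback.lift_snd _ _ _)
    · let w : T ⟶ W := q.app (op T) g
      let Ko : Over S := Over.mk (pullback.snd p.left w.left ≫ T.hom)
      let k : Ko ⟶ T := Over.homMk (pullback.snd p.left w.left)
      let x : Ko ⟶ W' := Over.homMk (pullback.fst p.left w.left) (by
        change _ ≫ W'.hom = pullback.snd p.left w.left ≫ T.hom
        rw [← Over.w p, reassoc_of% pullback.condition (f := p.left) (g := w.left), Over.w w])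
      have hxk : q.app (op Ko) (G.map k.op g) = x ≫ p := by
        have h1 := ConcreteCategory.congr_hom (q.naturality k.op) g
        simp only [types_comp_apply] at h1
        exact h1.trans (Over.OverMorphism.ext pullback.condition.symm)
      obtain ⟨v, ⟨hv1, hv2⟩, -⟩ := h.2 Ko _ x hxk
      let vP : Ko ⟶ Po := Over.homMk (v.left ≫ E') (by
        change (v.left ≫ E') ≫ Po.hom = Ko.hom
        rw [show Po.hom = pullback.fst p.left U.hom ≫ W'.hom from (Over.w fw).symm, Category.assoc,
          reassoc_of% hE']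
        exact (congrArg (v.left ≫ ·) (Over.w π)).trans (Over.w v))
      have hE'E : E' ≫ E = 𝟙 _ := by
        show e.inv.hom.left ≫ e.hom.hom.left = _
        rw [← Over.comp_left, ← SchDD.comp_hom, e.inv_hom_id]; rfl
      have hvP : vP ≫ Eo = v := Over.OverMorphism.ext (by
        change (v.left ≫ E') ≫ E = v.left
        rw [Category.assoc, hE'E, Category.comp_id])
      have hd : ∀ {R : Scheme.{u}} (a b : R ⟶ Ko.left), a ≫ k.left = b ≫ k.left →
          a ≫ (vP ≫ s).left = b ≫ (vP ≫ s).left := by
        intro R a b hab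
        let Ro : Over S := Over.mk ((a ≫ k.left) ≫ T.hom)
        let ao : Ro ⟶ Ko := Over.homMk a (by
          change a ≫ Ko.hom = (a ≫ k.left) ≫ T.hom
          exact (Category.assoc _ _ _).symm)
        let bo : Ro ⟶ Ko := Over.homMk b (by
          change b ≫ Ko.hom = (a ≫ k.left) ≫ T.hom
          rw [hab]; exact (Category.assoc _ _ _).symm)
        have hk' : ao ≫ k = bo ≫ k := Over.OverMorphism.ext hab
        have hξ : G.map (bo ≫ v).op ξ = G.map (ao ≫ v).op ξ := by
          rw [op_comp, op_comp, FunctorToTypes.map_comp_apply, FunctorToTypes.map_comp_apply, hv2,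
            ← FunctorToTypes.map_comp_apply, ← FunctorToTypes.map_comp_apply, ← op_comp, ← op_comp, hk']
        have hx0 : (a ≫ x.left) ≫ p.left = (b ≫ x.left) ≫ p.left := by
          rw [Category.assoc, Category.assoc,
            show x.left ≫ p.left = k.left ≫ w.left from pullback.condition, reassoc_of% hab]
        let va : Lifts (Over.mk π.left) (a ≫ x.left) :=
          ⟨a ≫ v.left, (Category.assoc _ _ _).trans (congrArg (a ≫ ·) (congrArg CommaMorphism.left hv1))⟩
        have hb1 : (bo ≫ v).left ≫ π.left = 𝟙 R ≫ b ≫ x.left := by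
          rw [Category.id_comp]
          exact (Category.assoc _ _ _).trans (congrArg (b ≫ ·) (congrArg CommaMorphism.left hv1))
        have key := h.trans'_val _ _ hx0 va (T' := Ro) (𝟙 R) (ao ≫ v) (bo ≫ v)
          (Category.id_comp _).symm hb1 hξ
        replace key := key.trans (Category.id_comp _)
        have hvaE : (a ≫ v.left ≫ E') ≫ pullback.fst p.left U.hom = a ≫ x.left := by
          rw [Category.assoc, Category.assoc, hE']
          exact congrArg (a ≫ ·) (congrArg CommaMorphism.left hv1)
        have h1 := e.inv.comm _ _ hx0 va ⟨a ≫ v.left ≫ E', hvaE⟩ (Category.assoc _ _ _).symm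
        have h2 := congrArg (· ≫ pullback.snd p.left U.hom) h1
        change pullback.lift _ ((a ≫ v.left ≫ E') ≫ pullback.snd p.left U.hom) _ ≫ pullback.snd p.left U.hom =
          ((h.trans' _ _ hx0 va).1 ≫ E') ≫ pullback.snd p.left U.hom at h2
        rw [pullback.lift_snd, ← key] at h2
        simpa [vP, s, bo] using h2
      haveI : EffectiveEpi k.left := inferInstanceAs (EffectiveEpi (pullback.snd p.left w.left))
      let zl := EffectiveEpi.desc k.left (vP ≫ s).left (fun a b hab => hd a b hab)
      have hzl : k.left ≫ zl = (vP ≫ s).left := EffectiveEpi.fac _ _ _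
      let z : T ⟶ Z := Over.homMk zl (by
        rw [← cancel_epi k.left, reassoc_of% hzl]
        exact (Over.w (vP ≫ s)).trans (Over.w k).symm)
      refine ⟨z, ?_⟩
      haveI : H13Desc.Eff.IsCover k.left := inferInstanceAs (H13Desc.Eff.IsCover (pullback.snd p.left w.left))
      refine (isSheafFor_singleton_cover hG k).isSeparatedFor.ext fun Y i hi => ?_
      obtain ⟨⟩ := hi
      have hkz : k ≫ z = vP ≫ s := Over.OverMorphism.ext hzl
      rw [← FunctorToTypes.map_comp_apply, ← op_comp, hkz, op_comp, FunctorToTypes.map_comp_apply, hg₀]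
      simp only [η, ← FunctorToTypes.map_comp_apply, ← op_comp, hvP]
      exact hv2
  let isoE : P ≅ Z'.left := ⟨E, E', hEE', by
    show e.inv.hom.left ≫ e.hom.hom.left = _
    rw [← Over.comp_left, ← SchDD.comp_hom, e.inv_hom_id]; rfl⟩
  refine ⟨Z, j, { homEquiv := fun {T} => Equiv.ofBijective _ (hb T), homEquiv_comp := ?_ }, hUP,
    ⟨Over.isoMk (pullbackSymmetry U.hom p.left ≪≫ isoE) ?_⟩, fun T z => hq z⟩
  swap
  · change ((pullbackSymmetry U.hom p.left).hom ≫ E) ≫ π.left = pullback.snd U.hom p.left
    rw [Category.assoc, hE, pullbackSymmetry_hom_comp_fst]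
  intro T T' f z
  exact FunctorToTypes.map_comp_apply G _ _ _

end Groth.Agent.H21Desc
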