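import Groth.Agent.S5266
import Groth.Agent.H22Alg.FlatSurj
import Groth.Agent.H17.Topology
import Groth.Prelude.Def_TwC

/-!
A scheme which becomes constant over a finite flat cover with a single, purely inseparable point over
a point of a connected base is constant.
-/

open CategoryTheory CategoryTheory.Limits AlgebraicGeometry

universe u

set_option linter.style.haveILetI false

namespace Groth.Agent.H21Desc

/-- the criterion -/
theorem nonempty_iso_const {T U X : Scheme.{u}} (p : X ⟶ U) (h : T ⟶ U) [Flat h] [LocallyOfFinitePresentation h]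
    [IsFinite h] [PreconnectedSpace U] (u : U) (t : T) (ht : h t = u) (huniq : ∀ y : T, h y = u → y = t)
    (hinj : UniversallyInjective (T.fromSpecResidueField t ≫ h))
    (I : Type u) (π : (∐ fun _ : I => T) ⟶ X)
    (hπ : IsPullback π (Sigma.desc fun _ : I => 𝟙 T) p h) :
    Nonempty (Over.mk p ≅ TwC.const U I) := by
  classical
  let d : (∐ fun _ : I => T) ⟶ T := Sigma.desc fun _ : I => 𝟙 T
  let inc := fun i : I => Sigma.ι (fun _ : I => T) i
  have hd : ∀ i y, d (inc i y) = y := fun i y => by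
    rw [← Scheme.Hom.comp_apply, Sigma.ι_desc]; rfl
  have hclopen : ∀ A : Set T, IsClopen A → A.Nonempty → t ∈ A := fun A hA hne => by
    have : IsClopen (h '' A) := ⟨h.isClosedMap _ hA.1, h.isOpenMap _ hA.2⟩
    obtain ⟨y, hy, hyu⟩ : u ∈ h '' A := (this.eq_univ (hne.image _)) ▸ Set.mem_univ u
    exact huniq y hyu ▸ hy
  have huniv : ∀ A : Set T, IsClopen A → A.Nonempty → A = Set.univ := fun A hA hne => by
    by_contra hne'
    exact hclopen Aᶜ hA.compl (Set.nonempty_compl.mpr hne') (hclopen A hA hne)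
  haveI : Surjective h := ⟨fun y => by
    have : IsClopen (Set.range h) := ⟨h.isClosedMap.isClosed_range, h.isOpenMap.isOpen_range⟩
    have := this.eq_univ ⟨u, t, ht⟩
    exact Set.mem_range.mp (by rw [this]; exact Set.mem_univ y)⟩
  haveI : Flat π := MorphismProperty.of_isPullback hπ.flip inferInstance
  haveI : LocallyOfFinitePresentation π := MorphismProperty.of_isPullback hπ.flip inferInstance
  haveI : IsFinite π := MorphismProperty.of_isPullback hπ.flip inferInstance
  haveI : Surjective π := MorphismProperty.of_isPullback hπ.flip inferInstance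
  -- injectivity over the distinguished point
  have hfib : ∀ w w', d w = t → d w' = t → π w = π w' → w = w' := by
    intro w w' hw hw' e
    have hP := (IsPullback.of_hasPullback d (T.fromSpecResidueField t)).flip.paste_vert hπ.flip
    haveI : UniversallyInjective (pullback.fst d (T.fromSpecResidueField t) ≫ π) :=
      MorphismProperty.of_isPullback (P := @UniversallyInjective) hP hinj
    have hr : ∀ z, d z = t → z ∈ Set.range (pullback.fst d (T.fromSpecResidueField t)) := fun z hz => by
      rw [Scheme.Pullback.range_fst, Set.mem_preimage, Scheme.range_fromSpecResidueField]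
      exact hz
    obtain ⟨z, rfl⟩ := hr w hw
    obtain ⟨z', rfl⟩ := hr w' hw'
    rw [(pullback.fst d (T.fromSpecResidueField t) ≫ π).injective (a₁ := z) (a₂ := z') e]
  -- the pieces
  have hincl : ∀ i, IsClopen (Set.range (inc i)) := fun i => by
    refine ⟨?_, (inc i).isOpenEmbedding.isOpen_range⟩
    rw [← isOpen_compl_iff, show (Set.range (inc i))ᶜ = ⋃ (j) (_ : j ≠ i), Set.range (inc j) by
      ext z
      obtain ⟨⟨j, y⟩, rfl⟩ := (sigmaMk fun _ : I => T).surjective z
      rw [sigmaMk_mk]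
      simp only [Set.mem_compl_iff, Set.mem_iUnion, exists_prop]
      refine ⟨fun hj => ⟨j, fun hji => hj ⟨y, hji ▸ rfl⟩, y, rfl⟩, ?_⟩
      rintro ⟨k, hk, y', hy'⟩ ⟨y'', hy''⟩
      have := (sigmaMk fun _ : I => T).injective (a₁ := ⟨k, y'⟩) (a₂ := ⟨i, y''⟩)
        (by rw [sigmaMk_mk, sigmaMk_mk]; exact hy'.trans hy''.symm)
      exact hk (congrArg Sigma.fst this)]
    exact isOpen_iUnion fun j => isOpen_iUnion fun _ => (inc j).isOpenEmbedding.isOpen_range
  let C : I → X.Opens := fun i => ⟨π '' Set.range (inc i), π.isOpenMap _ (hincl i).2⟩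
  have hC : ∀ i, IsClopen (C i : Set X) := fun i => ⟨π.isClosedMap _ (hincl i).1, π.isOpenMap _ (hincl i).2⟩
  have key : ∀ i z, π z ∈ C i → z ∈ Set.range (inc i) := by
    intro i z hz
    obtain ⟨⟨j, y⟩, rfl⟩ := (sigmaMk fun _ : I => T).surjective z
    rw [sigmaMk_mk] at hz ⊢
    have hA : IsClopen {y : T | π (inc j y) ∈ C i} := (hC i).preimage (π.continuous.comp (inc j).continuous)
    have ht' : π (inc j t) ∈ C i := by
      change t ∈ {y : T | π (inc j y) ∈ C i}
      rw [huniv _ hA ⟨y, hz⟩]; exact Set.mem_univ t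
    obtain ⟨_, ⟨y', rfl⟩, hy'⟩ := ht'
    have hp : ∀ z, p (π z) = h (d z) := fun z => by
      rw [← Scheme.Hom.comp_apply, ← Scheme.Hom.comp_apply, hπ.w]
    have hy : y' = t := huniq y' (by
      have := congrArg p hy'
      rwa [hp, hp, hd, hd, ht] at this)
    subst hy
    have hz' := hfib _ _ (hd i y') (hd j y') hy'
    have := (sigmaMk fun _ : I => T).injective (a₁ := ⟨i, y'⟩) (a₂ := ⟨j, y'⟩)
      (by rw [sigmaMk_mk, sigmaMk_mk]; exact hz')
    obtain rfl : i = j := congrArg Sigma.fst this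
    exact ⟨y, rfl⟩
  have hiso : ∀ i, IsIso ((C i).ι ≫ p) := fun i => by
    have hr : Set.range (inc i ≫ π) ⊆ Set.range (C i).ι := by
      rw [Scheme.Opens.range_ι, Scheme.Hom.comp_base, TopCat.coe_comp, Set.range_comp]
      rfl
    let πi : T ⟶ C i := IsOpenImmersion.lift (C i).ι (inc i ≫ π) hr
    have hπi : πi ≫ (C i).ι = inc i ≫ π := IsOpenImmersion.lift_fac _ _ hr
    have h1 : IsPullback πi (inc i) (C i).ι π := IsOpenImmersion.isPullback πi (inc i) (C i).ι π hπi.symm (by
      refine TopologicalSpace.Opens.ext (Set.ext fun z => ?_)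
      change π z ∈ Set.range (C i).ι ↔ z ∈ Set.range (inc i)
      rw [Scheme.Opens.range_ι]
      exact ⟨key i z, fun hz => ⟨z, hz, rfl⟩⟩)
    have h2 : IsPullback πi (𝟙 T) ((C i).ι ≫ p) h := by
      simpa [inc, d] using h1.paste_vert hπ
    haveI : QuasiCompact ((C i).ι ≫ p) := by
      refine ⟨fun K hKo hK => ?_⟩
      have hcov : Function.Surjective πi := fun x => by
        obtain ⟨_, ⟨y, rfl⟩, hy⟩ := x.2
        exact ⟨y, Subtype.ext (((congrArg (fun f : T ⟶ X => f y) hπi)).trans hy)⟩
      rw [← hcov.image_preimage (((C i).ι ≫ p) ⁻¹' K), ← Set.preimage_comp]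
      refine IsCompact.image ?_ πi.continuous
      have e : ⇑((C i).ι ≫ p) ∘ πi = h := funext fun y => congrArg (fun f : T ⟶ U => f y) (by
        simpa using h2.w : πi ≫ (C i).ι ≫ p = h)
      rw [e]
      exact QuasiCompact.isCompact_preimage K hKo hK
    haveI : IsIso (pullback.snd ((C i).ι ≫ p) h) := by
      rw [← h2.isoPullback_inv_snd]; infer_instance
    exact H22Alg.isIso_of_baseChange ((C i).ι ≫ p) h
  haveI := hiso
  let σ : I → (U ⟶ X) := fun i => CategoryTheory.inv ((C i).ι ≫ p) ≫ (C i).ι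
  have hσr : ∀ i, Set.range (σ i) = (C i : Set X) := fun i => by
    rw [Scheme.Hom.comp_base, TopCat.coe_comp, Set.range_comp,
      (CategoryTheory.inv ((C i).ι ≫ p)).surjective.range_eq, Set.image_univ, Scheme.Opens.range_ι]
  haveI : IsOpenImmersion (Sigma.desc σ) := isOpenImmersion_sigmaDesc _ σ fun i j hij => by
    change Disjoint (Set.range (σ i)) (Set.range (σ j))
    rw [hσr, hσr, Set.disjoint_left]
    intro x hxi hxj
    obtain ⟨z, rfl⟩ := π.surjective x
    obtain ⟨y, rfl⟩ := key i z hxi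
    obtain ⟨y', hy'⟩ := key j _ hxj
    exact hij (congrArg Sigma.fst ((sigmaMk fun _ : I => T).injective (a₁ := ⟨j, y'⟩) (a₂ := ⟨i, y⟩)
      (by rw [sigmaMk_mk, sigmaMk_mk]; exact hy'))).symm
  haveI : Surjective (Sigma.desc σ) := ⟨fun x => by
    obtain ⟨z, rfl⟩ := π.surjective x
    obtain ⟨⟨j, y⟩, rfl⟩ := (sigmaMk fun _ : I => T).surjective z
    rw [sigmaMk_mk]
    obtain ⟨v, hv⟩ : π (inc j y) ∈ Set.range (σ j) := hσr j ▸ ⟨_, ⟨y, rfl⟩, rfl⟩
    exact ⟨Sigma.ι (fun _ : I => U) j v, by rw [← Scheme.Hom.comp_apply, Sigma.ι_desc]; exact hv⟩⟩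
  haveI : IsIso (Sigma.desc σ) := (isIso_iff_isOpenImmersion_and_surjective _).mpr ⟨inferInstance, inferInstance⟩
  exact ⟨(Over.isoMk (asIso (Sigma.desc σ)) (Sigma.hom_ext _ _ fun i => by simp [σ])).symm⟩

end Groth.Agent.H21Desc
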